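import Cfsg.Agent.Mrg.Omega.NO3S.Pt.Path
import Cfsg.Agent.Mrg.Omega.NO3S.TwoOne.Bridge
import Cfsg.Agent.Omega.FOne.TvwGen
import Cfsg.Agent.OddHalf.Known
import Cfsg.Agent.Mrg.Omega.ML.MinIrr
import Mathlib.GroupTheory.Index
import Mathlib.LinearAlgebra.Basis.VectorSpace
import Mathlib.Algebra.BigOperators.Group.Finset.Basic

-- merged: Cfsg.Agent.Mrg.Omega.FOne.Crit
section

/-!
# NO-3S, `|V| = 4`: the alternative (F1') (bb OMEGA #12132, step (0), helper299)

`Fl T V z` : a flag `(z, V)` as in `CaseL.Ln` (K-free), `W_z = ws V z` abelian, and **not (F1)**: `K_z = kq V z`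
centralises `V`.

* `Fl.kq_le` : `K_z = C_G(W_z)`;
* `Fl.red` : a normal subgroup `M` of `C_G(z)` which induces a 2-group on `W_z` centralises `W_z`
  (`O₂(C_G(z) / C_G(W_z)) = 1`);
* `Fl.fix` : `C_{W_z}(T) = ⟨z⟩`;
* `Side V x y T L` : one side of a critical pair `(x, y)`: `(y, L)` is a flag with Sylow group `T`,
  `W_x ≤ O₂(C_G(L))`, `[W_x, W_y] ≤ W_x ∩ W_y` and `[W_x, W_y] ≠ 1`;
* `sides` : both sides of a critical pair; `Side.offender` : one of the two is an offender;
* `exists_cr` : there is a critical pair; `Fl.of_hyp`, `f1_of_not_cr` : the plug `NO3S.Hyp S P`, `|V_P| = 4`.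
-/

set_option autoImplicit false
set_option linter.unusedSectionVars false

namespace Cfsg.Agent.Omega.FOne.Crit

open Subgroup Cfsg Cfsg.Agent.ZN Cfsg.Agent.MinSimple.Geo Cfsg.Agent.Omega.CaseL Cfsg.Agent.Omega.NO3S.TwoOne
open Cfsg.Agent.Omega.NO3S.Pt (Col Pth Com Mn Cr conj_mem_cent)
open Cfsg.Agent.ZN.Block (conj_mem_of_normalizer conj_mem_of_normalizer' le_normalizer_of_forall
  mem_normalizer_of)

universe u

variable {G : Type u} [Group G]

/-- a flag, without (F1) -/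
structure Fl (T V : Subgroup G) (z : G) : Prop where
  ln : Ln T V z
  ab : ∀ a ∈ ws V z, ∀ b ∈ ws V z, a * b = b * a
  nf : kq V z ≤ centralizer (V : Set G)

namespace Fl

variable {T V : Subgroup G} {z : G}

theorem conj (h : Fl T V z) (g : G) : Fl (cj g T) (cj g V) (g * z * g⁻¹) where
  ln := h.ln.conj g
  ab := by
    rw [ws_cj, ← cj_ws]
    intro a ha b hb
    have := h.ab _ (mem_of_cj ha) _ (mem_of_cj hb)
    calc a * b = g * ((g⁻¹ * a * g) * (g⁻¹ * b * g)) * g⁻¹ := by group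
      _ = g * ((g⁻¹ * b * g) * (g⁻¹ * a * g)) * g⁻¹ := by rw [this]
      _ = b * a := by group
  nf := by
    rw [kq_cj, ← cj_kq]
    intro k hk
    rw [mem_centralizer_iff]
    intro v hv
    have := mem_centralizer_iff.mp (h.nf (mem_cj.mp hk)) _ (mem_cj.mp hv)
    calc v * k = g * ((g⁻¹ * v * g) * (g⁻¹ * k * g)) * g⁻¹ := by group
      _ = g * ((g⁻¹ * k * g) * (g⁻¹ * v * g)) * g⁻¹ := by rw [this]
      _ = k * v := by group

theorem point (h : Fl T V z) {p : G} (hp : p ∈ V) (hp1 : p ≠ 1) :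
    ∃ g ∈ normalizer (V : Set G), g * z * g⁻¹ = p ∧ Fl (cj g T) V p := by
  obtain ⟨g, hg, rfl⟩ := h.ln.trans p hp hp1
  refine ⟨g, hg, rfl, ?_⟩
  have := h.conj g
  rwa [cj_eq_of_mem_normalizer hg] at this

theorem flag (h : Fl T V z) {g x : G} (hx : x ∈ cj g V) (hx1 : x ≠ 1) :
    ∃ k, cj k V = cj g V ∧ k * z * k⁻¹ = x ∧ Fl (cj k T) (cj g V) x := by
  rw [mem_cj] at hx
  have hx1' : g⁻¹ * x * g ≠ 1 := fun e => hx1 (by
    have : x = g * (g⁻¹ * x * g) * g⁻¹ := by group
    rw [this, e]; group)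
  obtain ⟨m, hm, hmz, hf⟩ := h.point hx hx1'
  have h1 := hf.conj g
  have e : g * (g⁻¹ * x * g) * g⁻¹ = x := by group
  rw [e, cj_cj] at h1
  refine ⟨g * m, ?_, ?_, h1⟩
  · rw [← cj_cj, cj_eq_of_mem_normalizer hm]
  · calc g * m * z * (g * m)⁻¹ = g * (m * z * m⁻¹) * g⁻¹ := by group
      _ = x := by rw [hmz]; group

theorem exists_flag (h : Fl T V z) {x : G} (hx : Col V x x) :
    ∃ g k, x ∈ cj g V ∧ cj k V = cj g V ∧ k * z * k⁻¹ = x ∧ Fl (cj k T) (cj g V) x := by
  obtain ⟨g, h1, -, h2, -⟩ := hx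
  obtain ⟨k, hk⟩ := h.flag h1 h2
  exact ⟨g, k, h1, hk⟩

theorem sqz (h : Fl T V z) : ∀ a ∈ ws V z, a * a = 1 := NO3S.TwoOne.ws_sq h.ln h.ab

theorem z_mem_ws (h : Fl T V z) : z ∈ ws V z := h.ln.V_le_ws h.ln.z_mem

theorem C_norm (_ : Fl T V z) :
    centralizer ({z} : Set G) ≤ normalizer ((ws V z : Subgroup G) : Set G) :=
  centralizer_le_normalizer_ws V z

theorem cent_le (h : Fl T V z) : centralizer (ws V z : Set G) ≤ centralizer ({z} : Set G) := by
  intro c hc
  rw [mem_centralizer_singleton_iff]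
  exact (mem_centralizer_iff.mp hc z h.z_mem_ws).symm

/-- `K_z` centralises `W_z`. -/
theorem kq_le (h : Fl T V z) : kq V z ≤ centralizer (ws V z : Set G) := by
  intro k hk
  have h1 : ws V z ≤ centralizer ({k} : Set G) := by
    refine ws_le fun L hL => ?_
    obtain ⟨c, hc, rfl⟩ := h.ln.exists_of_mem_lines hL
    intro x hx
    rw [mem_centralizer_singleton_iff]
    have hk' : c⁻¹ * k * c ∈ kq V z := by
      have := conj_mem_kq c⁻¹ hk
      have e : c⁻¹ * z * c⁻¹⁻¹ = z := by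
        rw [mul_assoc, inv_inv, ← h.ln.z_comm hc]; group
      rw [e, inv_inv] at this
      exact this
    have := mem_centralizer_iff.mp (h.nf hk') _ (mem_cj.mp hx)
    calc x * k = c * ((c⁻¹ * x * c) * (c⁻¹ * k * c)) * c⁻¹ := by group
      _ = c * ((c⁻¹ * k * c) * (c⁻¹ * x * c)) * c⁻¹ := by rw [this]
      _ = k * x := by group
  rw [mem_centralizer_iff]
  intro w hw
  exact mem_centralizer_singleton_iff.mp (h1 hw)

theorem cent_le_kq (h : Fl T V z) : centralizer (ws V z : Set G) ≤ kq V z := by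
  intro k hk
  refine ⟨h.cent_le hk, fun w hw => ?_, fun w hw => ?_⟩
  · have := mem_centralizer_iff.mp hk w hw
    rw [← this]
    simp
  · have := mem_centralizer_iff.mp (inv_mem hk) w hw
    rw [← this]
    simp

/-- an element of `C_G(z)` which is trivial on `W_z / ⟨z⟩` is trivial on `W_z`. -/
theorem faith (h : Fl T V z) {k : G} (hk : k ∈ centralizer ({z} : Set G))
    (h1 : ∀ w ∈ ws V z, k * w * k⁻¹ * w⁻¹ ∈ zpowers z) : k ∈ centralizer (ws V z : Set G) := by
  refine h.kq_le ⟨hk, h1, fun w hw => ?_⟩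
  have h2 := h1 (k⁻¹ * w * k) (conj_mem_of_normalizer' (centralizer_le_normalizer_ws V z) hk hw)
  have e : k * (k⁻¹ * w * k) * k⁻¹ * (k⁻¹ * w * k)⁻¹ = (k⁻¹ * w * k * w⁻¹)⁻¹ := by group
  rw [e] at h2
  exact inv_mem_iff.mp h2

/-- `C_G(z) ∩ N_G(V)` acts on `V` as `⟨(v ↦ z v)⟩`. -/
theorem kq_of_forall (h : Fl T V z) {k : G}
    (hk : ∀ c ∈ centralizer ({z} : Set G), c⁻¹ * k * c ∈ centralizer ({z} : Set G) ⊓ normalizer (V : Set G)) :
    k ∈ centralizer (ws V z : Set G) := by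
  have hkz : k ∈ centralizer ({z} : Set G) := by
    have := (hk 1 (one_mem _)).1
    simpa using this
  refine h.faith hkz fun w hw => ?_
  let D : Subgroup G :=
    { carrier := {w | w ∈ centralizer ({z} : Set G) ∧ k * w * k⁻¹ * w⁻¹ ∈ zpowers z}
      one_mem' := ⟨one_mem _, by simp⟩
      mul_mem' := by
        rintro a b ⟨ha, ha1⟩ ⟨hb, hb1⟩
        refine ⟨mul_mem ha hb, ?_⟩
        have e : k * (a * b) * k⁻¹ * (a * b)⁻¹ =
            (k * a * k⁻¹ * a⁻¹) * (a * (k * b * k⁻¹ * b⁻¹) * a⁻¹) := by group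
        rw [e]
        refine mul_mem ha1 ?_
        rcases (mem_zpowers_iff_of_mul_self h.ln.zz).mp hb1 with e1 | e1
        · rw [e1]; simp
        · rw [e1, h.ln.z_comm ha, mul_inv_cancel_right]; exact mem_zpowers z
      inv_mem' := by
        rintro a ⟨ha, ha1⟩
        refine ⟨inv_mem ha, ?_⟩
        have e : k * a⁻¹ * k⁻¹ * a⁻¹⁻¹ = a⁻¹ * (k * a * k⁻¹ * a⁻¹)⁻¹ * a := by group
        rw [e]
        rcases (mem_zpowers_iff_of_mul_self h.ln.zz).mp ha1 with e1 | e1
        · rw [e1]; simp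
        · rw [e1, inv_eq_self h.ln.zz]
          have e2 : a⁻¹ * z * a = z := by
            rw [mul_assoc, ← h.ln.z_comm ha, inv_mul_cancel_left]
          rw [e2]; exact mem_zpowers z }
  have hD : ws V z ≤ D := by
    refine ws_le fun L hL => ?_
    obtain ⟨c, hc, rfl⟩ := h.ln.exists_of_mem_lines hL
    intro x hx
    rw [mem_cj] at hx
    have hxz : c⁻¹ * x * c ∈ centralizer ({z} : Set G) := h.ln.T_le (h.ln.V_le hx)
    have hx' : x ∈ centralizer ({z} : Set G) := by
      have := mul_mem (mul_mem hc hxz) (inv_mem hc)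
      have e : c * (c⁻¹ * x * c) * c⁻¹ = x := by group
      rwa [e] at this
    refine ⟨hx', ?_⟩
    have h1 := hk c hc
    have e : k * x * k⁻¹ * x⁻¹ =
        c * ((c⁻¹ * k * c) * (c⁻¹ * x * c) * (c⁻¹ * k * c)⁻¹ * (c⁻¹ * x * c)⁻¹) * c⁻¹ := by group
    rw [e]
    rcases h.ln.conj_cases h.ln.z_mem hx h.ln.z_ne (h.ln.z_comm h1.1) h1.2 with e1 | e1
    · rw [e1]; simp
    · rw [e1]
      have e2 : c * (z * (c⁻¹ * x * c) * (c⁻¹ * x * c)⁻¹) * c⁻¹ = z := by
        rw [mul_inv_cancel_right, h.ln.z_comm hc, mul_inv_cancel_right]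
      rw [e2]; exact mem_zpowers z
  exact (hD hw).2

/-- **`O₂(C_G(z) / C_G(W_z)) = 1`.** -/
theorem red [Finite G] (h : Fl T V z) {M : Subgroup G} (hM : M ≤ centralizer ({z} : Set G))
    (hn : centralizer ({z} : Set G) ≤ normalizer (M : Set G)) {k : ℕ}
    (h2 : (centralizer (ws V z : Set G)).relIndex M = 2 ^ k) : M ≤ centralizer (ws V z : Set G) := by
  have : Fact (Nat.Prime 2) := ⟨Nat.prime_two⟩
  -- a Sylow 2-subgroup of `M`
  obtain ⟨Q⟩ : Nonempty (Sylow 2 M) := inferInstance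
  set Q0 : Subgroup G := (Q : Subgroup M).map M.subtype with hQ0
  have hQM : Q0 ≤ M := map_subtype_le _
  have hQ2 : IsPGroup 2 Q0 := Q.2.map _
  have hQi : ¬ 2 ∣ Q0.relIndex M := by
    have e : Q0.relIndex M = (Q : Subgroup M).index := by
      have e' : Q0.subgroupOf M = (Q : Subgroup M) := by
        rw [hQ0]
        exact comap_map_eq_self_of_injective M.subtype_injective _
      rw [Subgroup.relIndex, e']
    rw [e]
    exact Q.not_dvd_index
  obtain ⟨c, hc, hcT⟩ := exists_cj_le_of_sylow h.ln.T_le h.ln.two h.ln.T_syl (hQM.trans hM) hQ2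
  have hcM : cj c M = M := cj_eq_of_mem_normalizer (hn hc)
  have hQcM : cj c Q0 ≤ M := by
    have := cj_mono (g := c) hQM
    rwa [hcM] at this
  have hQci : ¬ 2 ∣ (cj c Q0).relIndex M := by
    have := relIndex_cj c Q0 M
    rw [hcM] at this
    rwa [this]
  -- `M = Q^c C_M(W)`
  have hNB : M ≤ centralizer ({z} : Set G) ⊓ normalizer (V : Set G) := by
    set B : Subgroup G := centralizer ({z} : Set G) ⊓ normalizer (V : Set G) with hB
    have h3 : cj c Q0 ≤ B := hcT.trans (le_inf h.ln.T_le h.ln.T_norm)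
    have h4 : centralizer (ws V z : Set G) ≤ B := by
      refine le_inf h.cent_le ?_
      exact (centralizer_le h.ln.V_le_ws).trans (centralizer_le_normalizer _)
    have h5 : B.relIndex M ∣ (cj c Q0).relIndex M := relIndex_dvd_of_le_left M h3
    have h6 : B.relIndex M ∣ 2 ^ k := by
      rw [← h2]; exact relIndex_dvd_of_le_left M h4
    obtain ⟨j, -, hj⟩ := (Nat.dvd_prime_pow Nat.prime_two).mp h6
    have h7 : j = 0 := by
      by_contra hj0
      apply hQci
      refine dvd_trans ?_ h5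
      rw [hj]
      exact dvd_pow_self 2 hj0
    rw [h7, pow_zero] at hj
    exact relIndex_eq_one.mp hj
  intro m hm
  refine h.kq_of_forall fun c hc => hNB ?_
  exact conj_mem_of_normalizer' hn hc hm

/-- `C_{W_z}(T) = ⟨z⟩`. -/
theorem fix [Finite G] (h : Fl T V z) {w : G} (hw : w ∈ ws V z) (hT : ∀ t ∈ T, t * w = w * t) :
    w = 1 ∨ w = z := h.ln.soc w (h.ln.ws_le_T hw) (h.sqz w hw) hT

section basic

variable {x y : G}

theorem ws_comm (h : Fl T V z) (hx : Col V x x) : ∀ a ∈ ws V x, ∀ b ∈ ws V x, a * b = b * a := by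
  obtain ⟨g, _, -, -, -, hf⟩ := h.exists_flag hx
  have := hf.ab
  rwa [ws_cj] at this

theorem ws_sq (h : Fl T V z) (hx : Col V x x) : ∀ a ∈ ws V x, a * a = 1 := by
  obtain ⟨g, _, -, -, -, hf⟩ := h.exists_flag hx
  have := hf.sqz
  rwa [ws_cj] at this

theorem ws_le_o2 [Finite G] (h : Fl T V z) (hx : Col V x x) : ws V x ≤ o2 (centralizer ({x} : Set G)) := by
  obtain ⟨g, _, -, -, -, hf⟩ := h.exists_flag hx
  have := hf.ln.ws_le_o2
  rwa [ws_cj] at this

theorem ws_le_cent [Finite G] (h : Fl T V z) (hx : Col V x x) : ws V x ≤ centralizer ({x} : Set G) :=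
  (h.ws_le_o2 hx).trans (o2_le _)

theorem line_le_ws (_ : Fl T V z) {g : G} (hx : x ∈ cj g V) : cj g V ≤ ws V x := le_ws ⟨⟨g, rfl⟩, hx⟩

theorem mem_ws_self (h : Fl T V z) (hx : Col V x x) : x ∈ ws V x := by
  obtain ⟨g, h1, -, -, -⟩ := hx
  exact h.line_le_ws h1 h1

theorem isPGroup_ws (h : Fl T V z) (hx : Col V x x) : IsPGroup 2 (ws V x) := by
  intro a
  refine ⟨1, ?_⟩
  ext
  simpa [pow_two] using h.ws_sq hx a a.2

end basic

/-- (T1): at distance `< n` the group `W_x` lies in `O₂(C_G(y))` -/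
theorem ws_le_o2_of_pth [Finite G] (h : Fl T V z) {n : ℕ} (hm : Mn V n) :
    ∀ k < n, ∀ x y, Pth V k x y → ws V x ≤ o2 (centralizer ({y} : Set G)) := by
  intro k
  induction k with
  | zero =>
    intro _ x y hxy
    cases hxy with
    | zero hx => exact h.ws_le_o2 hx
  | succ k ih =>
    intro hk x y hxy
    have hxy0 := hxy
    cases hxy with
    | @step _ _ y' _ hp c =>
      have h1 := ih (by omega) x y' hp
      obtain ⟨g, hy', hy, hy'1, hy1⟩ := id c
      -- `W_x ≤ C(L)`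
      have h2 : ws V x ≤ centralizer ((cj g V : Subgroup G) : Set G) := by
        intro a ha
        rw [mem_centralizer_iff]
        intro b hb
        exact (hm k (by omega) x y' hp a ha b (h.line_le_ws hy' hb)).symm
      have h3 : centralizer ((cj g V : Subgroup G) : Set G) ≤ centralizer ({y'} : Set G) := by
        intro c hc
        rw [mem_centralizer_singleton_iff]
        exact (mem_centralizer_iff.mp hc y' hy').symm
      have h4 : ws V x ≤ o2 (centralizer ((cj g V : Subgroup G) : Set G)) := by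
        refine le_trans (le_inf h1 h2) (le_o2 inf_le_right ((isPGroup_o2 _).to_le inf_le_left) ?_)
        refine le_normalizer_of_forall fun c hc a ha => ?_
        exact ⟨conj_mem_of_normalizer (le_normalizer_o2 _) (h3 hc) ha.1, conj_mem_cent hc ha.2⟩
      have h5 : centralizer (ws V y : Set G) ≤ centralizer ((cj g V : Subgroup G) : Set G) :=
        centralizer_le (h.line_le_ws hy)
      have h6 : ws V x ≤ centralizer (ws V y : Set G) := by
        intro a ha
        rw [mem_centralizer_iff]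
        intro b hb
        exact (hm (k + 1) hk x y hxy0 a ha b hb).symm
      have h7 : ws V x ≤ o2 (centralizer (ws V y : Set G)) := by
        refine le_trans (le_inf h4 h6) (le_o2 inf_le_right ((isPGroup_o2 _).to_le inf_le_left) ?_)
        refine le_normalizer_of_forall fun c hc a ha => ?_
        exact ⟨conj_mem_of_normalizer (le_normalizer_o2 _) (h5 hc) ha.1, conj_mem_cent hc ha.2⟩
      refine h7.trans ?_
      have h8 : centralizer (ws V y : Set G) ≤ centralizer ({y} : Set G) := by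
        intro c' hc'
        rw [mem_centralizer_singleton_iff]
        exact (mem_centralizer_iff.mp hc' y (h.mem_ws_self c.right)).symm
      refine le_o2 ((o2_le _).trans h8) (isPGroup_o2 _) ?_
      exact ((centralizer_le_normalizer_ws V y).trans (normalizer_le_normalizer_centralizer _)).trans
        (normalizer_le_normalizer_o2 _)

end Fl

/-! ### critical pairs -/

/-- One side of a critical pair `(x, y)`: a flag `(y, L)` with Sylow group `T` and `W_x ≤ O₂(C_G(L))`. -/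
structure Side (V : Subgroup G) (x y : G) (T L : Subgroup G) : Prop where
  line : ∃ g, L = cj g V
  fl : Fl T L y
  le_o2 : ws V x ≤ o2 (centralizer (L : Set G))
  left : ∀ a ∈ ws V x, ∀ b ∈ ws V y, a * b * a⁻¹ * b⁻¹ ∈ ws V x
  right : ∀ a ∈ ws V x, ∀ b ∈ ws V y, a * b * a⁻¹ * b⁻¹ ∈ ws V y
  ne : ¬ Com V x y

/-- the last line of a critical pair -/
theorem last [Finite G] {T V : Subgroup G} {z : G} (h : Fl T V z) {n : ℕ} {x y : G}
    (hc : Cr V (n + 1) x y) :
    ∃ g, y ∈ cj g V ∧ y ≠ 1 ∧ ws V x ≤ o2 (centralizer ((cj g V : Subgroup G) : Set G)) := by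
  have hp := hc.path
  cases hp with
  | @step _ _ y' _ hp c =>
    obtain ⟨g, hy', hy, hy'1, hy1⟩ := id c
    refine ⟨g, hy, hy1, ?_⟩
    have h1 := h.ws_le_o2_of_pth hc.min n (by omega) x y' hp
    have h2 : ws V x ≤ centralizer ((cj g V : Subgroup G) : Set G) := by
      intro a ha
      rw [mem_centralizer_iff]
      intro b hb
      exact (hc.min n (by omega) x y' hp a ha b (h.line_le_ws hy' hb)).symm
    have h3 : centralizer ((cj g V : Subgroup G) : Set G) ≤ centralizer ({y'} : Set G) := by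
      intro c hc
      rw [mem_centralizer_singleton_iff]
      exact (mem_centralizer_iff.mp hc y' hy').symm
    refine le_trans (le_inf h1 h2) (le_o2 inf_le_right ((isPGroup_o2 _).to_le inf_le_left) ?_)
    refine le_normalizer_of_forall fun c hc a ha => ?_
    exact ⟨conj_mem_of_normalizer (le_normalizer_o2 _) (h3 hc) ha.1, conj_mem_cent hc ha.2⟩

theorem cent [Finite G] {T V : Subgroup G} {z : G} (h : Fl T V z) {n : ℕ} {x y : G}
    (hc : Cr V (n + 1) x y) : ws V x ≤ centralizer ({y} : Set G) := by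
  obtain ⟨g, hy, -, hle⟩ := last h hc
  refine (hle.trans (o2_le _)).trans fun c hc => ?_
  rw [mem_centralizer_singleton_iff]
  exact (mem_centralizer_iff.mp hc y hy).symm

/-- **the side at `y` of a critical pair** -/
theorem side [Finite G] {T V : Subgroup G} {z : G} (h : Fl T V z) {n : ℕ} {x y : G}
    (hc : Cr V (n + 1) x y) : ∃ k, k * z * k⁻¹ = y ∧ Side V x y (cj k T) (cj k V) := by
  obtain ⟨g, hy, hy1, hle⟩ := last h hc
  obtain ⟨k, hk, hky, hf⟩ := h.flag hy hy1
  have hr : ∀ a ∈ ws V x, ∀ b ∈ ws V y, a * b * a⁻¹ * b⁻¹ ∈ ws V y := fun a ha b hb =>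
    mul_mem (conj_mem_of_normalizer (centralizer_le_normalizer_ws V y) (cent h hc ha) hb) (inv_mem hb)
  have hl : ∀ a ∈ ws V x, ∀ b ∈ ws V y, a * b * a⁻¹ * b⁻¹ ∈ ws V x := by
    intro a ha b hb
    have e : a * b * a⁻¹ * b⁻¹ = a * (b * a⁻¹ * b⁻¹) := by group
    rw [e]
    exact mul_mem ha (conj_mem_of_normalizer (centralizer_le_normalizer_ws V x) (cent h hc.symm hb)
      (inv_mem ha))
  refine ⟨k, hky, ⟨k, rfl⟩, ?_, ?_, hl, hr, hc.ne⟩
  · rw [hk]; exact hf
  · rw [hk]; exact hle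

/-- **both sides of a critical pair** -/
theorem sides [Finite G] {T V : Subgroup G} {z : G} (h : Fl T V z) {n : ℕ} {x y : G}
    (hc : Cr V (n + 1) x y) :
    (∃ k, k * z * k⁻¹ = y ∧ Side V x y (cj k T) (cj k V)) ∧
      ∃ k, k * z * k⁻¹ = x ∧ Side V y x (cj k T) (cj k V) :=
  ⟨side h hc, side h hc.symm⟩

namespace Side

variable {V T L : Subgroup G} {x y : G}

theorem ws_eq (h : Side V x y T L) (p : G) : ws L p = ws V p := by
  obtain ⟨g, hg⟩ := h.line
  rw [hg, ws_cj]

theorem le_centralizer_L (h : Side V x y T L) : ws V x ≤ centralizer (L : Set G) :=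
  h.le_o2.trans (o2_le _)

theorem L_le (h : Side V x y T L) : L ≤ ws V y := by
  have := h.fl.ln.V_le_ws
  rwa [h.ws_eq] at this

theorem le_C (h : Side V x y T L) : ws V x ≤ centralizer ({y} : Set G) := by
  refine h.le_centralizer_L.trans fun c hc => ?_
  rw [mem_centralizer_singleton_iff]
  exact (mem_centralizer_iff.mp hc y h.fl.ln.z_mem).symm

theorem le_normalizer (h : Side V x y T L) : ws V x ≤ normalizer ((ws V y : Subgroup G) : Set G) :=
  h.le_C.trans (centralizer_le_normalizer_ws V y)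

theorem ab (h : Side V x y T L) : ∀ a ∈ ws V y, ∀ b ∈ ws V y, a * b = b * a := by
  have := h.fl.ab
  rwa [h.ws_eq] at this

theorem sq (h : Side V x y T L) : ∀ a ∈ ws V y, a * a = 1 := by
  have := h.fl.sqz
  rwa [h.ws_eq] at this

theorem faith (h : Side V x y T L) {k : G} (hk : k ∈ centralizer ({y} : Set G))
    (h1 : ∀ w ∈ ws V y, k * w * k⁻¹ * w⁻¹ ∈ zpowers y) : k ∈ centralizer (ws V y : Set G) := by
  have := h.fl.faith hk
  rw [h.ws_eq] at this
  exact this h1

theorem red [Finite G] (h : Side V x y T L) {M : Subgroup G} (hM : M ≤ centralizer ({y} : Set G))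
    (hn : centralizer ({y} : Set G) ≤ normalizer (M : Set G)) {k : ℕ}
    (h2 : (centralizer (ws V y : Set G)).relIndex M = 2 ^ k) : M ≤ centralizer (ws V y : Set G) := by
  have := h.fl.red hM hn (k := k)
  rw [h.ws_eq] at this
  exact this h2

theorem fix [Finite G] (h : Side V x y T L) {w : G} (hw : w ∈ ws V y) (hT : ∀ t ∈ T, t * w = w * t) :
    w = 1 ∨ w = y := by
  rw [← h.ws_eq] at hw
  exact h.fl.fix hw hT

/-- `W_x` is quadratic on `W_y`, if `W_x` is abelian -/
theorem quad (h : Side V x y T L) (hx : ∀ a ∈ ws V x, ∀ b ∈ ws V x, a * b = b * a) {a a' b : G}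
    (ha : a ∈ ws V x) (ha' : a' ∈ ws V x) (hb : b ∈ ws V y) :
    a' * (a * b * a⁻¹ * b⁻¹) = (a * b * a⁻¹ * b⁻¹) * a' := hx a' ha' _ (h.left a ha b hb)

/-- `W_y = ⟨L^c : c ∈ C_G(y)⟩` -/
theorem gen (h : Side V x y T L) {U : Subgroup G} (hU : ∀ c ∈ centralizer ({y} : Set G), cj c L ≤ U) :
    ws V y ≤ U := by
  rw [← h.ws_eq]
  refine ws_le fun L' hL' => ?_
  obtain ⟨c, hc, rfl⟩ := h.fl.ln.exists_of_mem_lines hL'
  exact hU c hc

/-- **one of the two sides is an offender**: `|W_y : C_{W_y}(W_x)| ≤ |W_x : C_{W_x}(W_y)|` or conversely. -/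
theorem offender (V : Subgroup G) (x y : G) :
    (centralizer (ws V x : Set G)).relIndex (ws V y) ≤ (centralizer (ws V y : Set G)).relIndex (ws V x) ∨
      (centralizer (ws V y : Set G)).relIndex (ws V x) ≤ (centralizer (ws V x : Set G)).relIndex (ws V y) :=
  le_total _ _

end Side

/-! ### existence of a critical pair -/

/-- If all pairs commute, a nontrivial 2-subgroup is normalised by `N_G(V)` and `C_G(z)`. -/
theorem exists_local [Finite G] {T V : Subgroup G} {z : G} (h : Fl T V z)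
    (hall : ∀ k x y, Pth V k x y → Com V x y) :
    ∃ U : Subgroup G, IsPGroup 2 U ∧ U ≠ ⊥ ∧ normalizer (V : Set G) ≤ normalizer (U : Set G) ∧
      centralizer ({z} : Set G) ≤ normalizer (U : Set G) := by
  have hz0 : Col V z z := ⟨1, by rw [cj_one]; exact h.ln.z_mem, by rw [cj_one]; exact h.ln.z_mem,
    h.ln.z_ne, h.ln.z_ne⟩
  let I := {x : G // ∃ k, Pth V k z x}
  let U : Subgroup G := ⨆ x : I, ws V (x : G)
  have hle : ∀ x, (∃ k, Pth V k z x) → ws V x ≤ U := fun x hx => le_iSup (fun x : I => ws V (x : G)) ⟨x, hx⟩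
  have hab : U ≤ centralizer (U : Set G) := by
    refine iSup_le fun x => ?_
    rw [le_centralizer_iff]
    refine iSup_le fun y => ?_
    obtain ⟨k, hk⟩ := x.2
    obtain ⟨l, hl⟩ := y.2
    intro a ha
    rw [mem_centralizer_iff]
    intro b hb
    exact hall _ _ _ (hk.symm.trans hl) b hb a ha
  have h2 : ∀ u ∈ U, u * u = 1 := by
    let E : Subgroup G :=
      { carrier := {x | x ∈ U ∧ x * x = 1}
        one_mem' := ⟨one_mem _, one_mul 1⟩
        mul_mem' := by
          rintro a b ⟨ha, ha2⟩ ⟨hb, hb2⟩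
          refine ⟨mul_mem ha hb, ?_⟩
          have h1 : b * a = a * b := (mem_centralizer_iff.1 (hab ha) b hb)
          calc a * b * (a * b) = a * (b * a) * b := by group
            _ = (a * a) * (b * b) := by rw [h1]; group
            _ = 1 := by rw [ha2, hb2, one_mul]
        inv_mem' := by
          rintro a ⟨ha, ha2⟩
          refine ⟨inv_mem ha, ?_⟩
          rw [inv_eq_self ha2]; exact ha2 }
    have hE : U ≤ E := iSup_le fun x a ha => by
      obtain ⟨k, hk⟩ := x.2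
      exact ⟨hle x x.2 ha, h.ws_sq hk.right a ha⟩
    exact fun u hu => (hE hu).2
  have hN : ∀ g : G, (∃ k, Pth V k z (g * z * g⁻¹)) → cj g U ≤ U := by
    rintro g ⟨k, hk⟩
    rw [cj_le_iff]
    refine iSup_le fun x => ?_
    rw [← cj_le_iff, cj_ws]
    obtain ⟨l, hl⟩ := x.2
    exact hle _ ⟨k + l, hk.trans (hl.conj g)⟩
  have hN' : ∀ g : G, (∃ k, Pth V k z (g * z * g⁻¹)) → (∃ k, Pth V k z (g⁻¹ * z * g⁻¹⁻¹)) →
      g ∈ normalizer (U : Set G) := by
    intro g h1 h3
    rw [mem_normalizer_iff_cj]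
    apply le_antisymm (hN g h1)
    have := hN g⁻¹ h3
    rw [cj_le_iff, inv_inv] at this
    exact this
  refine ⟨U, ?_, ?_, ?_, ?_⟩
  · intro u
    refine ⟨1, ?_⟩
    ext
    simpa [pow_two] using h2 u u.2
  · intro hU
    have h1 := hle z ⟨0, .zero hz0⟩ h.z_mem_ws
    rw [hU, mem_bot] at h1
    exact h.ln.z_ne h1
  · have key : ∀ g ∈ normalizer (V : Set G), ∃ k, Pth V k z (g * z * g⁻¹) := by
      intro g hg
      refine ⟨1, Pth.of_col ⟨1, ?_, ?_, h.ln.z_ne, fun e => h.ln.z_ne (conj_eq_one_iff.mp e)⟩⟩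
      · rw [cj_one]; exact h.ln.z_mem
      · rw [cj_one]; exact (mem_normalizer_iff.mp hg z).mp h.ln.z_mem
    exact fun g hg => hN' g (key g hg) (key _ (inv_mem hg))
  · have key : ∀ g ∈ centralizer ({z} : Set G), ∃ k, Pth V k z (g * z * g⁻¹) := by
      intro g hg
      rw [h.ln.z_comm hg, mul_inv_cancel_right]
      exact ⟨0, .zero hz0⟩
    exact fun g hg => hN' g (key g hg) (key _ (inv_mem hg))

/-- there is a critical pair -/
theorem exists_cr [Finite G] {T V : Subgroup G} {z : G} (h : Fl T V z)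
    (hloc : ∀ U : Subgroup G, IsPGroup 2 U → normalizer (V : Set G) ≤ normalizer (U : Set G) →
      centralizer ({z} : Set G) ≤ normalizer (U : Set G) → U = ⊥) :
    ∃ n x y, Cr V (n + 1) x y := by
  classical
  have h1 : ∃ k, ∃ x y, Pth V k x y ∧ ¬ Com V x y := by
    by_contra hcon
    push Not at hcon
    obtain ⟨U, hU2, hU, hU1, hU3⟩ := exists_local h hcon
    exact hU (hloc U hU2 hU1 hU3)
  obtain ⟨x, y, hp, hne⟩ := Nat.find_spec h1
  have hmin : Mn V (Nat.find h1) := by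
    intro k hk a b hab
    by_contra hcon
    exact Nat.find_min h1 hk ⟨a, b, hab, hcon⟩
  have hpos : Nat.find h1 ≠ 0 := by
    intro h0
    rw [h0] at hp
    cases hp with
    | zero hx => exact hne (h.ws_comm hx)
  obtain ⟨n, hn⟩ := Nat.exists_eq_succ_of_ne_zero hpos
  refine ⟨n, x, y, ?_⟩
  rw [Nat.succ_eq_add_one] at hn
  rw [← hn]
  exact ⟨hp, hne, hmin⟩

/-! ### the plug -/

/-- **The plug**: `Hyp S P`, `|V_P| = 4` and not (F1) give a flag `Fl S V z`. -/
theorem Fl.of_hyp [Finite G] {S : Sylow 2 G} {P : Subgroup G} (h : NO3S.Hyp S P)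
    (hc : Nat.card (zl (S : Subgroup G) P) = 4) {z : G} (hz : z ∈ zc (S : Subgroup G)) (hz1 : z ≠ 1)
    (nf : kq (zl (S : Subgroup G) P) z ≤ centralizer (zl (S : Subgroup G) P : Set G)) :
    Fl (S : Subgroup G) (zl (S : Subgroup G) P) z where
  ln := ln_four h hc hz hz1
  ab := by
    intro a ha b hb
    rw [ws_four h hc hz hz1] at ha hb
    exact mem_centralizer_iff.1 (h.W_comm hb) a ha
  nf := nf

/-- `⟨N_G(V), C_G(z)⟩` is nonlocal. -/
theorem nonLoc_of_hyp [Finite G] {S : Sylow 2 G} {P : Subgroup G} (h : NO3S.Hyp S P)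
    (hc : Nat.card (zl (S : Subgroup G) P) = 4) {z : G} (hz : z ∈ zc (S : Subgroup G)) (hz1 : z ≠ 1) :
    ∀ U : Subgroup G, IsPGroup 2 U →
      normalizer (zl (S : Subgroup G) P : Set G) ≤ normalizer (U : Set G) →
      centralizer ({z} : Set G) ≤ normalizer (U : Set G) → U = ⊥ := by
  intro U hU h1 h2
  refine h.nonLoc U hU ((MinSimple.VModule.le_normalizer_zl _ _).trans h1) ?_
  rw [← centralizer_singleton_eq_CZ h hc hz hz1]
  exact h2

/-- **(F1) from the impossibility of critical pairs of flags without (F1).** -/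
theorem f1_of_not_cr [Finite G] {S : Sylow 2 G} {P : Subgroup G} (h : NO3S.Hyp S P)
    (hc : Nat.card (zl (S : Subgroup G) P) = 4) {z : G} (hz : z ∈ zc (S : Subgroup G)) (hz1 : z ≠ 1)
    (hend : ∀ (T V : Subgroup G) (z : G), Fl T V z → ∀ n x y, ¬ Cr V (n + 1) x y) :
    ∃ k ∈ kq (zl (S : Subgroup G) P) z, k ∉ centralizer (zl (S : Subgroup G) P : Set G) := by
  by_contra hcon
  push Not at hcon
  have hf := Fl.of_hyp h hc hz hz1 hcon
  obtain ⟨n, x, y, hcr⟩ := exists_cr hf (nonLoc_of_hyp h hc hz hz1)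
  exact hend _ _ _ hf n x y hcr

end Cfsg.Agent.Omega.FOne.Crit

end

-- merged: Cfsg.Agent.Mrg.Omega.FOne.Rep
section

section


/-!
# (F1'): transfer from the flag `(z, V)` to the module `W_z` (with helper299)

* `Rp E W` : the elementary abelian group `E ≤ G` written as an `𝔽₂`-space `W` (`exists_rp`);
* `Rp.rho` : the action of `C ≤ N_G(E)` on `W`, `Rp.im r D` : the image of `D`; `card_im` : its order is
  `|D : C_D(E)|`;
* `PSin` : **the K-input (PS')** of bb OMEGA #15003 about modules;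
* `base` : `Base H y` for `H` = the image of `C_G(z)`, `y` = the vector of `z`;
* `side_out` : `PSin` for one side of a critical pair.
-/

set_option autoImplicit false
set_option linter.unusedSectionVars false

namespace Cfsg.Agent.Omega.FOne.Rep

open Subgroup Cfsg Cfsg.Agent.ZN Cfsg.Agent.MinSimple.Geo Cfsg.Agent.Omega.CaseL
open Cfsg.Agent.Omega.FOne.Crit (Fl Side)
open Cfsg.Agent.Omega.FOne.Tvw (Base Blk IsTv z2 addself)
open Cfsg.Agent.Omega.NO3S.Pt (Col Pth Com Mn Cr conj_mem_cent)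
open Cfsg.Agent.ZN.Block (conj_mem_of_normalizer conj_mem_of_normalizer' le_normalizer_of_forall
  mem_normalizer_of)

universe u

variable {G : Type u} [Group G]

/-- `E` written additively, as an `𝔽₂`-space -/
structure Rp (E : Subgroup G) (W : Type u) [AddCommGroup W] [Module (ZMod 2) W] where
  e : W → G
  add : ∀ a b, e (a + b) = e a * e b
  inj : Function.Injective e
  rng : ∀ g, g ∈ E ↔ ∃ w, e w = g

theorem exists_rp {E : Subgroup G} (hab : ∀ a ∈ E, ∀ b ∈ E, a * b = b * a) (hsq : ∀ a ∈ E, a * a = 1) :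
    ∃ (W : Type u) (_ : AddCommGroup W) (_ : Module (ZMod 2) W), Nonempty (Rp E W) := by
  let _ : CommGroup E :=
    { (inferInstance : Group E) with mul_comm := fun a b => Subtype.ext (hab a a.2 b b.2) }
  have h2 : ∀ x : Additive E, 2 • x = 0 := by
    intro x
    rw [two_nsmul]
    exact congrArg Additive.ofMul (Subtype.ext (hsq _ (Additive.toMul x).2) :
      (Additive.toMul x) * (Additive.toMul x) = 1)
  let _ : Module (ZMod 2) (Additive E) := AddCommGroup.zmodModule h2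
  refine ⟨Additive E, inferInstance, inferInstance, ⟨?_⟩⟩
  exact
    { e := fun w => ((Additive.toMul w : E) : G)
      add := fun _ _ => rfl
      inj := fun a b h => Additive.toMul.injective (Subtype.ext h)
      rng := fun g => ⟨fun h => ⟨Additive.ofMul ⟨g, h⟩, rfl⟩, by rintro ⟨w, rfl⟩; exact (Additive.toMul w).2⟩ }

namespace Rp

variable {E : Subgroup G} {W : Type u} [AddCommGroup W] [Module (ZMod 2) W] (r : Rp E W)

theorem mem (w : W) : r.e w ∈ E := (r.rng _).mpr ⟨w, rfl⟩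

theorem zero : r.e 0 = 1 := by
  have := r.add 0 0
  rw [add_zero] at this
  exact left_eq_mul.mp this

theorem eq_one {w : W} : r.e w = 1 ↔ w = 0 := by
  constructor
  · intro h; exact r.inj (by rw [h, r.zero])
  · rintro rfl; exact r.zero

theorem sq (w : W) : r.e w * r.e w = 1 := by rw [← r.add, addself, r.zero]

theorem inv (w : W) : (r.e w)⁻¹ = r.e w := inv_eq_of_mul_eq_one_left (r.sq w)

include r in
theorem finite [Finite G] : Finite W := Finite.of_injective r.e r.inj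

include r in
theorem card : Nat.card W = Nat.card E := by
  refine Nat.card_eq_of_bijective (fun w => (⟨r.e w, r.mem w⟩ : E)) ⟨?_, ?_⟩
  · intro a b h
    exact r.inj (congrArg Subtype.val h)
  · rintro ⟨g, hg⟩
    obtain ⟨w, rfl⟩ := (r.rng g).mp hg
    exact ⟨w, rfl⟩

/-- the vector of an element of `E` -/
noncomputable def pre (g : G) (hg : g ∈ E) : W := ((r.rng g).mp hg).choose

theorem e_pre {g : G} (hg : g ∈ E) : r.e (r.pre g hg) = g := ((r.rng g).mp hg).choose_spec

theorem conj_mem {g : G} (hg : g ∈ normalizer (E : Set G)) (w : W) : g * r.e w * g⁻¹ ∈ E :=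
  (mem_normalizer_iff.mp hg _).mp (r.mem w)

/-- the action of `g ∈ N_G(E)` -/
noncomputable def act {g : G} (hg : g ∈ normalizer (E : Set G)) (w : W) : W :=
  r.pre (g * r.e w * g⁻¹) (r.conj_mem hg w)

theorem e_act {g : G} (hg : g ∈ normalizer (E : Set G)) (w : W) : r.e (r.act hg w) = g * r.e w * g⁻¹ :=
  r.e_pre _

/-- the linear map of `g ∈ N_G(E)` -/
noncomputable def lin {g : G} (hg : g ∈ normalizer (E : Set G)) : W ≃ₗ[ZMod 2] W where
  toFun := r.act hg
  map_add' a b := by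
    apply r.inj
    rw [r.add, r.e_act, r.e_act, r.e_act, r.add]
    group
  map_smul' c w := by
    rcases z2 c with rfl | rfl
    · rw [zero_smul, RingHom.id_apply, zero_smul]
      apply r.inj
      rw [r.e_act, r.zero]; group
    · rw [one_smul, RingHom.id_apply, one_smul]
  invFun := r.act (inv_mem hg)
  left_inv w := by
    apply r.inj
    rw [r.e_act, r.e_act]; group
  right_inv w := by
    apply r.inj
    rw [r.e_act, r.e_act]; group

theorem e_lin {g : G} (hg : g ∈ normalizer (E : Set G)) (w : W) : r.e (r.lin hg w) = g * r.e w * g⁻¹ :=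
  r.e_act hg w

/-- the action of `C ≤ N_G(E)` -/
noncomputable def rho (C : Subgroup G) (hC : C ≤ normalizer (E : Set G)) : C →* (W ≃ₗ[ZMod 2] W) where
  toFun c := r.lin (hC c.2)
  map_one' := by
    ext w
    apply r.inj
    rw [r.e_lin]
    simp
  map_mul' a b := by
    ext w
    apply r.inj
    change r.e (r.lin (hC (a * b).2) w) = r.e (r.lin (hC a.2) (r.lin (hC b.2) w))
    rw [r.e_lin, r.e_lin, r.e_lin]
    push_cast
    group

variable {C : Subgroup G} (hC : C ≤ normalizer (E : Set G))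

theorem e_rho (c : C) (w : W) : r.e (r.rho C hC c w) = c * r.e w * (c : G)⁻¹ := r.e_lin _ w

theorem rho_eq_one_iff (c : C) : r.rho C hC c = 1 ↔ (c : G) ∈ centralizer (E : Set G) := by
  rw [mem_centralizer_iff]
  constructor
  · intro h g hg
    obtain ⟨w, rfl⟩ := (r.rng g).mp hg
    have h1 := r.e_rho hC c w
    rw [h] at h1
    change r.e w = _ at h1
    rw [eq_mul_inv_iff_mul_eq] at h1
    exact h1
  · intro h
    ext w
    apply r.inj
    rw [r.e_rho]
    change _ = r.e w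
    rw [← h _ (r.mem w), mul_inv_cancel_right]

theorem ker_rho : (r.rho C hC).ker = (centralizer (E : Set G)).subgroupOf C := by
  ext c
  rw [MonoidHom.mem_ker, r.rho_eq_one_iff hC, mem_subgroupOf]

/-- the image of `D ∩ C` -/
noncomputable def im (D : Subgroup G) : Subgroup (W ≃ₗ[ZMod 2] W) := (D.subgroupOf C).map (r.rho C hC)

theorem mem_im {D : Subgroup G} (hD : D ≤ C) {φ : W ≃ₗ[ZMod 2] W} :
    φ ∈ r.im hC D ↔ ∃ g ∈ D, ∀ w, r.e (φ w) = g * r.e w * g⁻¹ := by
  constructor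
  · rintro ⟨c, hc, rfl⟩
    exact ⟨c, mem_subgroupOf.mp hc, fun w => r.e_rho hC c w⟩
  · rintro ⟨g, hg, h⟩
    refine ⟨⟨g, hD hg⟩, mem_subgroupOf.mpr hg, ?_⟩
    ext w
    apply r.inj
    rw [h w, r.e_rho]

theorem im_mono {D D' : Subgroup G} (h : D ≤ D') : r.im hC D ≤ r.im hC D' :=
  map_mono fun _ hx => mem_subgroupOf.mpr (h (mem_subgroupOf.mp hx))

theorem im_self : r.im hC C = (r.rho C hC).range := by
  rw [im, subgroupOf_self, MonoidHom.range_eq_map]

theorem card_im {D : Subgroup G} (hD : D ≤ C) :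
    Nat.card (r.im hC D) = (centralizer (E : Set G)).relIndex D := by
  rw [im, ← relIndex_ker, r.ker_rho, relIndex_subgroupOf hD]

theorem exists_im {D : Subgroup G} (hD : D ≤ C) {g : G} (hg : g ∈ D) :
    ∃ φ ∈ r.im hC D, ∀ w, r.e (φ w) = g * r.e w * g⁻¹ :=
  ⟨r.rho C hC ⟨g, hD hg⟩, ⟨_, mem_subgroupOf.mpr hg, rfl⟩, fun w => r.e_rho hC _ w⟩

theorem isPGroup_im {D : Subgroup G} (hp : IsPGroup 2 D) : IsPGroup 2 (r.im hC D) :=
  (hp.comap_of_injective _ (subtype_injective C)).map _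

/-- the subgroup of `G` of a submodule -/
def sub (B : Submodule (ZMod 2) W) : Subgroup G where
  carrier := {g | ∃ w ∈ B, r.e w = g}
  one_mem' := ⟨0, B.zero_mem, r.zero⟩
  mul_mem' := by
    rintro _ _ ⟨a, ha, rfl⟩ ⟨b, hb, rfl⟩
    exact ⟨a + b, B.add_mem ha hb, r.add a b⟩
  inv_mem' := by
    rintro _ ⟨a, ha, rfl⟩
    exact ⟨a, ha, (r.inv a).symm⟩

theorem mem_sub {B : Submodule (ZMod 2) W} {g : G} : g ∈ r.sub B ↔ ∃ w ∈ B, r.e w = g := Iff.rfl

theorem e_mem_sub {B : Submodule (ZMod 2) W} {w : W} : r.e w ∈ r.sub B ↔ w ∈ B := by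
  constructor
  · rintro ⟨v, hv, e⟩
    rwa [← r.inj e]
  · intro h; exact ⟨w, h, rfl⟩

theorem sub_le (B : Submodule (ZMod 2) W) : r.sub B ≤ E := by
  rintro _ ⟨w, -, rfl⟩
  exact r.mem w

theorem sub_mono {B B' : Submodule (ZMod 2) W} (h : B ≤ B') : r.sub B ≤ r.sub B' := by
  rintro _ ⟨w, hw, rfl⟩
  exact ⟨w, h hw, rfl⟩

theorem card_sub (B : Submodule (ZMod 2) W) : Nat.card (r.sub B) = Nat.card B := by
  symm
  refine Nat.card_eq_of_bijective (fun w : B => (⟨r.e w, r.e_mem_sub.mpr w.2⟩ : r.sub B)) ⟨?_, ?_⟩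
  · intro a b h
    exact Subtype.ext (r.inj (congrArg Subtype.val h))
  · rintro ⟨_, w, hw, rfl⟩
    exact ⟨⟨w, hw⟩, rfl⟩

/-- the submodule of a subgroup -/
def mod (D : Subgroup G) : Submodule (ZMod 2) W where
  carrier := {w | r.e w ∈ D}
  zero_mem' := by
    change r.e 0 ∈ D
    rw [r.zero]; exact D.one_mem
  add_mem' := by
    intro a b ha hb
    change r.e (a + b) ∈ D
    rw [r.add]; exact D.mul_mem ha hb
  smul_mem' := by
    intro c w hw
    change r.e (c • w) ∈ D
    rcases z2 c with rfl | rfl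
    · rw [zero_smul, r.zero]; exact D.one_mem
    · rw [one_smul]; exact hw

theorem mem_mod {D : Subgroup G} {w : W} : w ∈ r.mod D ↔ r.e w ∈ D := Iff.rfl

theorem sub_mod {D : Subgroup G} (hD : D ≤ E) : r.sub (r.mod D) = D := by
  ext g
  constructor
  · rintro ⟨w, hw, rfl⟩; exact hw
  · intro hg
    obtain ⟨w, rfl⟩ := (r.rng g).mp (hD hg)
    exact ⟨w, hg, rfl⟩

theorem card_mod {D : Subgroup G} (hD : D ≤ E) : Nat.card (r.mod D) = Nat.card D := by
  rw [← r.card_sub, r.sub_mod hD]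

/-- conjugation of `sub B` by an element of `C` -/
theorem cj_sub {g : G} {φ : W ≃ₗ[ZMod 2] W} (h : ∀ w, r.e (φ w) = g * r.e w * g⁻¹)
    (B : Submodule (ZMod 2) W) : cj g (r.sub B) = r.sub (B.map (φ : W →ₗ[ZMod 2] W)) := by
  ext x
  rw [mem_cj]
  constructor
  · rintro ⟨w, hw, e⟩
    refine ⟨φ w, ⟨w, hw, rfl⟩, ?_⟩
    rw [h w, e]; group
  · rintro ⟨_, ⟨w, hw, rfl⟩, rfl⟩
    refine ⟨w, hw, ?_⟩
    change r.e w = g⁻¹ * r.e (φ w) * g
    rw [h w]; group

end Rp

/-! ### the module of a flag -/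

/-- non-abelian simple sections of the image of a proper subgroup are known -/
theorem known_range {G : Type u} [Group G] (hK : IsKProper G) {C : Subgroup G} (hC : C ≠ ⊤) {Y : Type u}
    [Group Y] (f : C →* Y) : IsKGroupWith IsKnownSimple' f.range := by
  intro L N _ hs hna
  let g : ↥(L.comap f.rangeRestrict) →* L ⧸ N :=
    (QuotientGroup.mk' N).comp (f.rangeRestrict.subgroupComap L)
  have hg : Function.Surjective g := by
    refine (QuotientGroup.mk'_surjective N).comp ?_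
    rintro ⟨y, hy⟩
    obtain ⟨x, rfl⟩ := f.rangeRestrict_surjective y
    exact ⟨⟨x, hy⟩, rfl⟩
  let e : ↥(L.comap f.rangeRestrict) ⧸ g.ker ≃* L ⧸ N := QuotientGroup.quotientKerEquivOfSurjective g hg
  have hs' := OddHalf.Known.isSimple_congr e.symm hs
  have hna' : ¬ IsMulCommutative (↥(L.comap f.rangeRestrict) ⧸ g.ker) := by
    intro h
    apply hna
    refine ⟨⟨fun a b => ?_⟩⟩
    apply e.symm.injective
    rw [map_mul, map_mul]
    exact h.is_comm.comm _ _
  exact OddHalf.Known.isKnownSimple'_congr e hna' (hK C hC _ g.ker hs' hna')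

variable {T V : Subgroup G} {z : G} {W : Type u} [AddCommGroup W] [Module (ZMod 2) W]

/-- the image `H` of `C_G(z)` -/
noncomputable abbrev HH (r : Rp (ws V z) W) : Subgroup (W ≃ₗ[ZMod 2] W) :=
  (r.rho (centralizer ({z} : Set G)) (centralizer_le_normalizer_ws V z)).range

/-- the image of `D ≤ C_G(z)` -/
noncomputable abbrev imz (r : Rp (ws V z) W) (D : Subgroup G) : Subgroup (W ≃ₗ[ZMod 2] W) :=
  r.im (centralizer_le_normalizer_ws V z) D

theorem imz_self (r : Rp (ws V z) W) : imz r (centralizer ({z} : Set G)) = HH r := r.im_self _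

theorem mem_HH (r : Rp (ws V z) W) {φ : W ≃ₗ[ZMod 2] W} :
    φ ∈ HH r ↔ ∃ g ∈ centralizer ({z} : Set G), ∀ w, r.e (φ w) = g * r.e w * g⁻¹ := by
  rw [← imz_self, r.mem_im _ le_rfl]

theorem imz_le (r : Rp (ws V z) W) (D : Subgroup G) : imz r D ≤ HH r := by
  rintro _ ⟨c, -, rfl⟩
  exact ⟨c, rfl⟩

/-- **`Base H y`** -/
theorem base [Finite G] (h : Fl T V z) (r : Rp (ws V z) W) {y : W} (hy : r.e y = z) : Base (HH r) y where
  y0 := by
    rintro rfl
    rw [r.zero] at hy
    exact h.ln.z_ne hy.symm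
  fix := by
    intro φ hφ
    obtain ⟨g, hg, e⟩ := (mem_HH r).mp hφ
    apply r.inj
    rw [e, hy, h.ln.z_comm hg, mul_inv_cancel_right]
  faith := by
    intro φ hφ h1
    obtain ⟨g, hg, e⟩ := (mem_HH r).mp hφ
    have h2 : g ∈ centralizer (ws V z : Set G) := by
      refine h.faith hg fun w hw => ?_
      obtain ⟨w, rfl⟩ := (r.rng w).mp hw
      rw [← e w, r.inv]
      rcases h1 w with e1 | e1
      · rw [e1, r.sq]; exact one_mem _
      · rw [e1, r.add, hy]
        have : r.e w * z * r.e w = z * (r.e w * r.e w) := by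
          rw [← mul_assoc, h.ab _ (r.mem w) _ h.z_mem_ws]
        rw [this, r.sq, mul_one]
        exact mem_zpowers z
    ext w
    apply r.inj
    rw [e w]
    change _ = r.e w
    rw [← mem_centralizer_iff.mp h2 _ (r.mem w), mul_inv_cancel_right]
  core := by
    intro N hN hn hp
    have hC := centralizer_le_normalizer_ws V z
    set C := centralizer ({z} : Set G) with hCd
    let ρ := r.rho C hC
    let M' : Subgroup C := N.comap ρ
    let M : Subgroup G := M'.map C.subtype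
    have hM : M ≤ C := map_subtype_le _
    have hmem : ∀ c : C, (c : G) ∈ M ↔ ρ c ∈ N := by
      intro c
      constructor
      · rintro ⟨d, hd, e⟩
        have : d = c := Subtype.ext e
        rw [← this]; exact hd
      · intro hc; exact ⟨c, hc, rfl⟩
    have hnorm : C ≤ normalizer (M : Set G) := by
      refine le_normalizer_of_forall fun c hc m hm => ?_
      have h1 := (hmem ⟨m, hM hm⟩).mp hm
      have h2 : ρ (⟨c, hc⟩ * ⟨m, hM hm⟩ * ⟨c, hc⟩⁻¹) ∈ N := by
        rw [map_mul, map_mul, map_inv]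
        exact hn _ ⟨_, rfl⟩ _ h1
      exact (hmem _).mpr h2
    have hMs : M.subgroupOf C = M' := by
      ext c
      rw [mem_subgroupOf, hmem]
      rfl
    have himN : (M.subgroupOf C).map ρ = N := by
      rw [hMs]
      exact map_comap_eq_self hN
    have hNf : Finite N := by
      have : Finite W := r.finite
      have : Finite (W ≃ₗ[ZMod 2] W) := DFunLike.finite _
      exact inferInstance
    obtain ⟨k, hk⟩ := (IsPGroup.iff_card (p := 2)).mp hp
    have h3 : (centralizer (ws V z : Set G)).relIndex M = 2 ^ k := by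
      rw [← r.card_im hC hM, ← hk]
      change Nat.card ((M.subgroupOf C).map ρ) = _
      rw [himN]
    have h4 := h.red hM hnorm h3
    rw [eq_bot_iff]
    intro φ hφ
    obtain ⟨c, rfl⟩ := hN hφ
    rw [mem_bot]
    exact (r.rho_eq_one_iff hC c).mpr (h4 ((hmem c).mpr hφ))

/-! ### the K-input -/

/-- **The K-input (PS')** (bb OMEGA #15003, helper299): `H` acts on the `𝔽₂`-space `W`, fixes `y`, is faithful on
`W / y`, `O₂(H) = 1`; `T` is a Sylow 2-subgroup with `C_W(T) = {0, y}`, `L` of order 4 contains `y`, is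
`T`-invariant, its elements outside `y` are swapped by `T`, and its conjugates generate `W`; `A` is a quadratic
elementary abelian subgroup of `O₂(C_H(L))` with `|W : C_W(A)| ≤ |A|`.  Then equality holds, and `A` is generated
by transvections of `W / y` whose centres have swapped lifts.  `H` is a K-group. -/
def PSin : Prop :=
  ∀ (W : Type u) [AddCommGroup W] [Module (ZMod 2) W] [Finite W] (H : Subgroup (W ≃ₗ[ZMod 2] W)) (y : W)
    (T A N : Subgroup (W ≃ₗ[ZMod 2] W)) (L : Submodule (ZMod 2) W),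
    IsKGroupWith IsKnownSimple' H → Base H y →
    T ≤ H → IsPGroup 2 T → ¬ 2 ∣ T.relIndex H → (∀ w, (∀ t ∈ T, t w = w) → w = 0 ∨ w = y) →
    Nat.card L = 4 → y ∈ L → (∀ t ∈ T, ∀ v ∈ L, t v ∈ L) →
    (∀ v ∈ L, v ≠ 0 → v ≠ y → ∃ t ∈ T, t v = v + y) →
    (∀ U : Submodule (ZMod 2) W, (∀ h ∈ H, ∀ v ∈ L, h v ∈ U) → U = ⊤) →
    N ≤ H → IsPGroup 2 N → (∀ n ∈ N, ∀ v ∈ L, n v = v) →
    (∀ h ∈ H, (∀ v ∈ L, h v ∈ L) → ∀ n ∈ N, h * n * h⁻¹ ∈ N) →
    A ≤ N → A ≠ ⊥ → (∀ a ∈ A, a * a = 1) → (∀ a ∈ A, ∀ b ∈ A, a * b = b * a) →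
    (∀ a ∈ A, ∀ b ∈ A, ∀ w, b (a w + w) = a w + w) →
    Nat.card W ≤ Nat.card A * Nat.card {w : W // ∀ a ∈ A, a w = w} →
    Nat.card W = Nat.card A * Nat.card {w : W // ∀ a ∈ A, a w = w} ∧
      A ≤ Subgroup.closure {g | g ∈ A ∧ IsTv H y g}

section out

variable [Finite G] (h : Fl T V z) (r : Rp (ws V z) W) {y : W} (hy : r.e y = z)
include h

omit [Finite G] in
theorem cent_V_le : centralizer (V : Set G) ≤ centralizer ({z} : Set G) := by
  intro c hc
  rw [mem_centralizer_singleton_iff]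
  exact (mem_centralizer_iff.mp hc z h.ln.z_mem).symm

omit h [Finite G] in
theorem not_dvd_im {D : Subgroup G} (hD : ¬ 2 ∣ D.relIndex (centralizer ({z} : Set G))) :
    ¬ 2 ∣ (imz r D).relIndex (HH r) := by
  have h1 : (imz r D).relIndex (HH r) ∣ D.relIndex (centralizer ({z} : Set G)) := by
    rw [HH, MonoidHom.range_eq_map, imz, Rp.im, relIndex_map_map, top_sup_eq, relIndex_top_right]
    exact index_dvd_of_le le_sup_left
  exact fun h2 => hD (h2.trans h1)

omit [Finite G] in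
theorem e_eq_z_iff {w : W} (hy : r.e y = z) : r.e w = z ↔ w = y :=
  ⟨fun e => r.inj (e.trans hy.symm), fun e => by rw [e]; exact hy⟩

theorem fix_im (hy : r.e y = z) {w : W} (hw : ∀ t ∈ imz r T, t w = w) : w = 0 ∨ w = y := by
  rcases h.fix (r.mem w) (fun t ht => by
    obtain ⟨φ, hφ, e⟩ := r.exists_im (centralizer_le_normalizer_ws V z) h.ln.T_le ht
    have := e w
    rw [hw φ hφ, eq_mul_inv_iff_mul_eq] at this
    exact this.symm) with e | e
  · left; exact r.eq_one.mp e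
  · right; exact (e_eq_z_iff h r hy).mp e

theorem swap_im (hy : r.e y = z) {v : W} (hv : r.e v ∈ V) (v0 : v ≠ 0) (vy : v ≠ y) :
    ∃ t ∈ imz r T, t v = v + y := by
  by_contra hcon
  push Not at hcon
  have : ∀ t ∈ imz r T, t v = v := by
    intro φ hφ
    obtain ⟨t, ht, e⟩ := (r.mem_im _ h.ln.T_le).mp hφ
    rcases h.ln.conj_cases h.ln.z_mem hv h.ln.z_ne (h.ln.z_comm (h.ln.T_le ht)) (h.ln.T_norm ht) with e1 | e1
    · apply r.inj; rw [e, e1]
    · exfalso
      apply hcon φ hφ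
      apply r.inj
      rw [e, e1, r.add, hy, h.ln.comm h.ln.z_mem hv]
  rcases fix_im h r hy this with e | e
  · exact v0 e
  · exact vy e

theorem mem_normalizer_V {g : G} (hg : ∀ v ∈ V, g * v * g⁻¹ ∈ V) : g ∈ normalizer (V : Set G) := by
  rw [mem_normalizer_iff_cj]
  refine Subgroup.eq_of_le_of_card_ge ?_ ?_
  · rintro _ ⟨v, hv, rfl⟩
    exact hg v hv
  · rw [card_cj]

theorem side_out (hPS : PSin.{u}) (hK : IsKProper G) (hC : centralizer ({z} : Set G) ≠ ⊤) {x : G}
    (hxa : ∀ a ∈ ws V x, ∀ b ∈ ws V x, a * b = b * a) (hxs : ∀ a ∈ ws V x, a * a = 1)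
    (S : Side V x z T V) (hy : r.e y = z)
    (hge : (centralizer (ws V x : Set G)).relIndex (ws V z) ≤
      (centralizer (ws V z : Set G)).relIndex (ws V x)) :
    (centralizer (ws V x : Set G)).relIndex (ws V z) = (centralizer (ws V z : Set G)).relIndex (ws V x) ∧
      imz r (ws V x) ≤ Subgroup.closure {g | g ∈ imz r (ws V x) ∧ IsTv (HH r) y g} := by
  classical
  have hfW : Finite W := r.finite
  have hCn := centralizer_le_normalizer_ws V z
  have hVW := h.ln.V_le_ws
  have hcV := cent_V_le h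
  have ho2 : o2 (centralizer (V : Set G)) ≤ centralizer ({z} : Set G) := (o2_le _).trans hcV
  have hxC : ws V x ≤ centralizer ({z} : Set G) := S.le_C
  set A := imz r (ws V x) with hA
  have hcardA : Nat.card A = (centralizer (ws V z : Set G)).relIndex (ws V x) := r.card_im hCn hxC
  set α := (centralizer (ws V z : Set G)).relIndex (ws V x) with hα
  set α' := (centralizer (ws V x : Set G)).relIndex (ws V z) with hα'
  -- the fixed points
  have hK0 : Nat.card (centralizer (ws V x : Set G) ⊓ ws V z : Subgroup G) * α' = Nat.card W := by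
    rw [r.card, hα', ← inf_relIndex_right]
    have := relIndex_bot_left (centralizer (ws V x : Set G) ⊓ ws V z)
    rw [← this, relIndex_mul_relIndex ⊥ _ _ bot_le inf_le_right, relIndex_bot_left]
  have hK1 : Nat.card (centralizer (ws V x : Set G) ⊓ ws V z : Subgroup G) ≤
      Nat.card {w : W // ∀ a ∈ A, a w = w} := by
    refine Nat.card_le_card_of_injective
      (fun k => ⟨r.pre k.1 k.2.2, fun a ha => ?_⟩) ?_
    · obtain ⟨g, hg, e⟩ := (r.mem_im hCn hxC).mp ha
      apply r.inj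
      rw [e, r.e_pre k.2.2, mem_centralizer_iff.mp k.2.1 g hg, mul_inv_cancel_right]
    · intro k k' e
      have e1 := congrArg (fun t => r.e (Subtype.val t)) e
      simp only [r.e_pre] at e1
      exact Subtype.ext e1
  have hmain := hPS W (HH r) y (imz r T) A (imz r (o2 (centralizer (V : Set G)))) (r.mod V)
    (known_range hK hC _) (base h r hy) (imz_le r T) (r.isPGroup_im _ h.ln.two) (not_dvd_im r h.ln.T_syl)
    (fun w hw => fix_im h r hy hw) (by rw [r.card_mod hVW]; exact h.ln.card_V)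
    (by rw [r.mem_mod, hy]; exact h.ln.z_mem) ?_ (fun v hv v0 vy => swap_im h r hy hv v0 vy) ?_
    (imz_le r _) (r.isPGroup_im _ (isPGroup_o2 _)) ?_ ?_ (r.im_mono hCn S.le_o2) ?_ ?_ ?_ ?_ ?_
  · obtain ⟨h1, h2⟩ := hmain
    refine ⟨le_antisymm hge ?_, h2⟩
    rw [← hK0, hcardA] at h1
    have hpos : 0 < Nat.card (centralizer (ws V x : Set G) ⊓ ws V z : Subgroup G) := Nat.card_pos
    have h3 : α * Nat.card (centralizer (ws V x : Set G) ⊓ ws V z : Subgroup G) ≤
        Nat.card (centralizer (ws V x : Set G) ⊓ ws V z : Subgroup G) * α' := by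
      rw [h1]; exact Nat.mul_le_mul_left _ hK1
    rw [mul_comm] at h3
    exact Nat.le_of_mul_le_mul_left h3 hpos
  · -- `T` normalises `L`
    intro φ hφ v hv
    obtain ⟨t, ht, e⟩ := (r.mem_im hCn h.ln.T_le).mp hφ
    rw [r.mem_mod, e]
    exact (mem_normalizer_iff.mp (h.ln.T_norm ht) _).mp hv
  · -- generation
    intro U hU
    have h1 : ws V z ≤ r.sub U := by
      refine ws_le fun L' hL' => ?_
      obtain ⟨c, hc, rfl⟩ := h.ln.exists_of_mem_lines hL'
      obtain ⟨φ, hφ, e⟩ := r.exists_im hCn le_rfl hc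
      rintro _ ⟨v, hv, rfl⟩
      obtain ⟨w, rfl⟩ := (r.rng v).mp (hVW hv)
      refine ⟨φ w, hU φ ?_ w hv, e w⟩
      rw [← imz_self]; exact hφ
    rw [eq_top_iff]
    intro w _
    exact r.e_mem_sub.mp (h1 (r.mem w))
  · intro φ hφ v hv
    obtain ⟨n, hn, e⟩ := (r.mem_im hCn ho2).mp hφ
    apply r.inj
    rw [e, ← mem_centralizer_iff.mp (o2_le _ hn) _ hv, mul_inv_cancel_right]
  · intro φ hφ hL ν hν
    obtain ⟨g, hg, e⟩ := (mem_HH r).mp hφ
    obtain ⟨n, hn, e'⟩ := (r.mem_im hCn ho2).mp hν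
    have hgV : g ∈ normalizer (V : Set G) := by
      refine mem_normalizer_V h fun v hv => ?_
      obtain ⟨w, rfl⟩ := (r.rng v).mp (hVW hv)
      rw [← e]; exact hL w hv
    have h1 : g * n * g⁻¹ ∈ o2 (centralizer (V : Set G)) :=
      conj_mem_of_normalizer ((normalizer_le_normalizer_centralizer V).trans (normalizer_le_normalizer_o2 _))
        hgV hn
    refine (r.mem_im hCn ho2).mpr ⟨_, h1, fun w => ?_⟩
    have e2 : r.e (φ (φ⁻¹ w)) = r.e w := by rw [Tvw.ap_inv]
    have e3 : r.e (φ⁻¹ w) = g⁻¹ * r.e w * g := by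
      rw [e] at e2
      rw [← e2]; group
    change r.e (φ (ν (φ⁻¹ w))) = _
    rw [e, e', e3]; group
  · intro hbot
    apply S.ne
    intro a ha b hb
    obtain ⟨w, rfl⟩ := (r.rng b).mp hb
    obtain ⟨φ, hφ, e⟩ := r.exists_im hCn hxC ha
    have h1 : φ = 1 := by
      have : φ ∈ A := hφ
      rw [hbot, mem_bot] at this
      exact this
    have h2 := e w
    rw [h1] at h2
    change r.e w = _ at h2
    rw [eq_mul_inv_iff_mul_eq] at h2
    exact h2.symm
  · intro φ hφ
    obtain ⟨a, ha, e⟩ := (r.mem_im hCn hxC).mp hφ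
    ext w
    apply r.inj
    change r.e (φ (φ w)) = r.e w
    have h1 := hxs a ha
    rw [e, e, inv_eq_of_mul_eq_one_left h1]
    calc a * (a * r.e w * a) * a = (a * a) * r.e w * (a * a) := by group
      _ = r.e w := by rw [h1, one_mul, mul_one]
  · intro φ hφ ψ hψ
    obtain ⟨a, ha, e⟩ := (r.mem_im hCn hxC).mp hφ
    obtain ⟨b, hb, e'⟩ := (r.mem_im hCn hxC).mp hψ
    ext w
    apply r.inj
    change r.e (φ (ψ w)) = r.e (ψ (φ w))
    rw [e, e', e', e]
    have h1 := hxa a ha b hb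
    calc a * (b * r.e w * b⁻¹) * a⁻¹ = (a * b) * r.e w * (a * b)⁻¹ := by group
      _ = b * (a * r.e w * a⁻¹) * b⁻¹ := by rw [h1]; group
  · intro φ hφ ψ hψ w
    obtain ⟨a, ha, e⟩ := (r.mem_im hCn hxC).mp hφ
    obtain ⟨b, hb, e'⟩ := (r.mem_im hCn hxC).mp hψ
    apply r.inj
    rw [e', r.add, e]
    have h1 := S.left a ha _ (r.mem w)
    rw [r.inv] at h1
    rw [hxa b hb _ h1, mul_inv_cancel_right]
  · rw [← hK0, hcardA, mul_comm]
    exact Nat.mul_le_mul hge hK1

end out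

end Cfsg.Agent.Omega.FOne.Rep

end

section


/-!
# (F1') from (NO) only: the frame (ruling R-PS)

`PSin` (`FOne/Rep.lean`) is to be proved from (NO) = (ML) alone.

* `cm y B = {w : b w ∈ {w, w + y} for all b ∈ B}` : the preimage of `C_{W/y}(B)`;
* `Sw H y T N L` : the hypotheses of `PSin` on `(H, y, T, N, L)` and (NO) for the normal 2-subgroups of the
  stabiliser of `L`;
* `MEx y B` : `B` is `M`-exact;  `WEx y B` : `M`-exact and every `w ∈ cm y B` is fixed by `B`;
* `MAtom y B` : `B` is a minimal nontrivial `M`-exact group;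
* `IsTm y g` : `g` is a transvection of `W / y`;
* `PTv` : every `A` contains a transvection with swapped centre;
* `AtomTwo`, `TrSwap` : together they give `PTv` (helper299, 854, 201, 809, ..).
-/

set_option autoImplicit false
set_option linter.unusedSectionVars false

namespace Cfsg.Agent.Omega.FOne.NOv

open Subgroup Cfsg
open Cfsg.Agent.Omega.FOne.Tvw (Base Blk IsTv z2 addself)

universe u

section defs

variable {W : Type*} [AddCommGroup W] [Module (ZMod 2) W]

/-- the preimage in `W` of the fixed points of `B` on `W / y` -/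
def cm (y : W) (B : Subgroup (W ≃ₗ[ZMod 2] W)) : Set W := {w | ∀ b ∈ B, b w = w ∨ b w = w + y}

/-- `B` is `M`-exact: `|M| = |B| |C_M(B)|` for `M = W / y` -/
def MEx (y : W) (B : Subgroup (W ≃ₗ[ZMod 2] W)) : Prop := Nat.card B * Nat.card (cm y B) = Nat.card W

/-- `B` is `W`-exact: `M`-exact and `C_M(B) = C_W(B) / y` -/
structure WEx (y : W) (B : Subgroup (W ≃ₗ[ZMod 2] W)) : Prop where
  ex : MEx y B
  fix : ∀ w ∈ cm y B, ∀ b ∈ B, b w = w

/-- a minimal `M`-exact group -/
structure MAtom (y : W) (B : Subgroup (W ≃ₗ[ZMod 2] W)) : Prop where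
  ne : B ≠ ⊥
  ex : MEx y B
  min : ∀ B' ≤ B, B' ≠ ⊥ → MEx y B' → B' = B

/-- `g` is a transvection of `W / y` -/
def IsTm (y : W) (g : W ≃ₗ[ZMod 2] W) : Prop :=
  ∃ (θ : W) (f d : W →ₗ[ZMod 2] ZMod 2), θ ≠ 0 ∧ θ ≠ y ∧ f ≠ 0 ∧ ∀ w, g w = w + f w • θ + d w • y

/-- The hypotheses of `PSin` on `(H, y, T, N, L)`, and (NO). -/
structure Sw (H : Subgroup (W ≃ₗ[ZMod 2] W)) (y : W) (T N : Subgroup (W ≃ₗ[ZMod 2] W))
    (L : Submodule (ZMod 2) W) : Prop where
  known : IsKGroupWith IsKnownSimple' H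
  base : Base H y
  TH : T ≤ H
  two : IsPGroup 2 T
  syl : ¬ 2 ∣ T.relIndex H
  fixT : ∀ w, (∀ t ∈ T, t w = w) → w = 0 ∨ w = y
  card : Nat.card L = 4
  yL : y ∈ L
  TL : ∀ t ∈ T, ∀ v ∈ L, t v ∈ L
  swap : ∀ v ∈ L, v ≠ 0 → v ≠ y → ∃ t ∈ T, t v = v + y
  gen : ∀ U : Submodule (ZMod 2) W, (∀ h ∈ H, ∀ v ∈ L, h v ∈ U) → U = ⊤
  NH : N ≤ H
  N2 : IsPGroup 2 N
  NL : ∀ n ∈ N, ∀ v ∈ L, n v = v
  Nn : ∀ h ∈ H, (∀ v ∈ L, h v ∈ L) → ∀ n ∈ N, h * n * h⁻¹ ∈ N
  /-- (NO) for every normal 2-subgroup `Q` of the stabiliser of `L` -/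
  no : ∀ Q : Subgroup (W ≃ₗ[ZMod 2] W), Q ≤ H → IsPGroup 2 Q → (∀ q ∈ Q, ∀ v ∈ L, q v ∈ L) →
    (∀ h ∈ H, (∀ v ∈ L, h v ∈ L) → ∀ q ∈ Q, h * q * h⁻¹ ∈ Q) →
    ∀ B ≤ Q, (∀ b ∈ B, b * b = 1) → Nat.card B * Nat.card (cm y B) ≤ Nat.card W

/-- The data of `PSin` on `A`, together with the exactness given by (NO). -/
structure Ax (y : W) (N A : Subgroup (W ≃ₗ[ZMod 2] W)) : Prop where
  AN : A ≤ N
  sq : ∀ a ∈ A, a * a = 1
  quad : ∀ a ∈ A, ∀ b ∈ A, ∀ w, b (a w + w) = a w + w
  wex : WEx y A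

end defs

/-- **(AtomTwo)** : every minimal `M`-exact subgroup `B` of `A` has order 2 -/
def AtomTwo : Prop :=
  ∀ (W : Type u) [AddCommGroup W] [Module (ZMod 2) W] [Finite W] (H : Subgroup (W ≃ₗ[ZMod 2] W)) (y : W)
    (T N A B : Subgroup (W ≃ₗ[ZMod 2] W)) (L : Submodule (ZMod 2) W), Sw H y T N L → Ax y N A → B ≤ A →
    MAtom y B → Nat.card B = 2

/-- **(PTv)** : every `A` as above, `A ≠ 1`, contains a transvection of `W / y` whose centre has swapped lifts -/
def PTv : Prop :=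
  ∀ (W : Type u) [AddCommGroup W] [Module (ZMod 2) W] [Finite W] (H : Subgroup (W ≃ₗ[ZMod 2] W)) (y : W)
    (T N A : Subgroup (W ≃ₗ[ZMod 2] W)) (L : Submodule (ZMod 2) W), Sw H y T N L → Ax y N A → A ≠ ⊥ →
    ∃ g ∈ A, IsTv H y g

/-- **(TrSwap)** = THEOREM TR (helper809 #19638): the centre of a transvection of `W / y` in `N` has swapped lifts -/
def TrSwap : Prop :=
  ∀ (W : Type u) [AddCommGroup W] [Module (ZMod 2) W] [Finite W] (H : Subgroup (W ≃ₗ[ZMod 2] W)) (y : W)
    (T N : Subgroup (W ≃ₗ[ZMod 2] W)) (L : Submodule (ZMod 2) W), Sw H y T N L → ∀ g ∈ N, IsTm y g → IsTv H y g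

section basic

variable {W : Type*} [AddCommGroup W] [Module (ZMod 2) W] {y : W} {A B : Subgroup (W ≃ₗ[ZMod 2] W)}

theorem mem_cm {w : W} : w ∈ cm y B ↔ ∀ b ∈ B, b w = w ∨ b w = w + y := Iff.rfl

theorem cm_anti (h : B ≤ A) : cm y A ⊆ cm y B := fun _ hw b hb => hw b (h hb)

theorem zero_mem_cm : (0 : W) ∈ cm y B := fun b _ => Or.inl (map_zero b)

theorem add_mem_cm {v w : W} (hv : v ∈ cm y B) (hw : w ∈ cm y B) : v + w ∈ cm y B := by
  intro b hb
  have e2 : y + y = 0 := addself y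
  rcases hv b hb with h1 | h1 <;> rcases hw b hb with h2 | h2 <;> rw [map_add, h1, h2]
  · exact Or.inl rfl
  · right; abel
  · right; abel
  · left
    calc v + y + (w + y) = v + w + (y + y) := by abel
      _ = v + w := by rw [e2, add_zero]

/-- `cm` as a submodule -/
def cms (y : W) (B : Subgroup (W ≃ₗ[ZMod 2] W)) : Submodule (ZMod 2) W where
  carrier := cm y B
  zero_mem' := zero_mem_cm
  add_mem' := add_mem_cm
  smul_mem' := by
    intro c w hw
    rcases z2 c with rfl | rfl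
    · rw [zero_smul]; exact zero_mem_cm
    · rw [one_smul]; exact hw

theorem mem_cms {w : W} : w ∈ cms y B ↔ w ∈ cm y B := Iff.rfl

/-- the fixed points of `B` -/
def cw (B : Subgroup (W ≃ₗ[ZMod 2] W)) : Submodule (ZMod 2) W where
  carrier := {w | ∀ b ∈ B, b w = w}
  zero_mem' := fun b _ => map_zero b
  add_mem' := fun {v w} hv hw b hb => by rw [map_add, hv b hb, hw b hb]
  smul_mem' := fun c w hw b hb => by rw [map_smul, hw b hb]

theorem mem_cw {w : W} : w ∈ cw B ↔ ∀ b ∈ B, b w = w := Iff.rfl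

theorem cw_le_cms : cw B ≤ cms y B := fun _ hw b hb => Or.inl (hw b hb)

theorem WEx.eq (h : WEx y B) : cms y B = cw B :=
  le_antisymm (fun w hw => h.fix w hw) cw_le_cms

theorem WEx.card (h : WEx y B) : Nat.card B * Nat.card (cw B) = Nat.card W := by
  rw [← h.eq]; exact h.ex

end basic

end Cfsg.Agent.Omega.FOne.NOv

end

section


/-!
# The SPLIT LEMMA (bb OMEGA 07:33Z): `A` is generated by transvections

`Base H y`; `A ≤ H` elementary abelian, `W`-exact, (NO) for the subgroups of `A`, every `W`-exact `1 ≠ B ≤ A`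
contains a transvection of `W / y` with swapped centre.  Then `A` is generated by its transvections.
-/

set_option autoImplicit false
set_option linter.unusedSectionVars false

namespace Cfsg.Agent.Omega.FOne.NOv

open Subgroup Cfsg
open Cfsg.Agent.Omega.FOne.Tvw (Base Blk IsTv z2 addself)

section

variable {W : Type*} [AddCommGroup W] [Module (ZMod 2) W] {y : W} {H A B : Subgroup (W ≃ₗ[ZMod 2] W)}

/-- the pointwise stabiliser of `X` -/
def pst (X : Submodule (ZMod 2) W) : Subgroup (W ≃ₗ[ZMod 2] W) where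
  carrier := {g | ∀ x ∈ X, g x = x}
  one_mem' := fun _ _ => rfl
  mul_mem' := fun {a b} ha hb x hx => by
    change a (b x) = x
    rw [hb x hx, ha x hx]
  inv_mem' := fun {a} ha x hx => by
    have := congrArg (fun u => a⁻¹ u) (ha x hx)
    simp only [Tvw.inv_ap] at this
    exact this.symm

theorem mem_pst {X : Submodule (ZMod 2) W} {g : W ≃ₗ[ZMod 2] W} : g ∈ pst X ↔ ∀ x ∈ X, g x = x := Iff.rfl

theorem ap_sq {a : W ≃ₗ[ZMod 2] W} (h : a * a = 1) (w : W) : a (a w) = w := by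
  have := congrArg (fun e : W ≃ₗ[ZMod 2] W => e w) h
  simpa using this

theorem comm_of_sq (sq : ∀ a ∈ A, a * a = 1) {a b : W ≃ₗ[ZMod 2] W} (ha : a ∈ A) (hb : b ∈ A) : a * b = b * a := by
  have h1 := sq _ (A.mul_mem ha hb)
  have h2 := inv_eq_of_mul_eq_one_left h1
  rw [mul_inv_rev, inv_eq_of_mul_eq_one_left (sq a ha), inv_eq_of_mul_eq_one_left (sq b hb)] at h2
  exact h2.symm

/-- a linear map with values in `{0, y, θ, θ + y}` -/
theorem exists_fd {θ : W} (y0 : y ≠ 0) (θ0 : θ ≠ 0) (θy : θ ≠ y) {g : W ≃ₗ[ZMod 2] W}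
    (h : ∀ w, g w + w = 0 ∨ g w + w = y ∨ g w + w = θ ∨ g w + w = θ + y) :
    ∃ f d : W →ₗ[ZMod 2] ZMod 2, ∀ w, g w = w + f w • θ + d w • y := by
  have h1 : θ ∉ Submodule.span (ZMod 2) {y} := by
    rw [Submodule.mem_span_singleton]
    rintro ⟨a, ha⟩
    rcases z2 a with rfl | rfl
    · rw [zero_smul] at ha; exact θ0 ha.symm
    · rw [one_smul] at ha; exact θy ha.symm
  have h2 : y ∉ Submodule.span (ZMod 2) {θ} := by
    rw [Submodule.mem_span_singleton]
    rintro ⟨a, ha⟩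
    rcases z2 a with rfl | rfl
    · rw [zero_smul] at ha; exact y0 ha.symm
    · rw [one_smul] at ha; exact θy ha
  obtain ⟨φ, φ1, φ2⟩ := Submodule.exists_le_ker_of_notMem h1
  obtain ⟨π, π1, π2⟩ := Submodule.exists_le_ker_of_notMem h2
  have a1 : φ θ = 1 := (z2 _).resolve_left φ1
  have a2 : φ y = 0 := φ2 (Submodule.mem_span_singleton_self y)
  have a3 : π y = 1 := (z2 _).resolve_left π1
  have a4 : π θ = 0 := π2 (Submodule.mem_span_singleton_self θ)
  refine ⟨φ.comp ((g : W →ₗ[ZMod 2] W) + LinearMap.id), π.comp ((g : W →ₗ[ZMod 2] W) + LinearMap.id), fun w => ?_⟩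
  change g w = w + φ (g w + w) • θ + π (g w + w) • y
  have e : g w = w + (g w + w) := by
    linear_combination (norm := module) (-1 : ZMod 2) • addself w
  rcases h w with h3 | h3 | h3 | h3
  · rw [h3, map_zero, map_zero, zero_smul, zero_smul]
    rw [h3] at e; simpa using e
  · rw [h3, a2, a3, zero_smul, one_smul, add_zero]
    rw [h3] at e; exact e
  · rw [h3, a1, a4, zero_smul, one_smul, add_zero]
    rw [h3] at e; exact e
  · rw [h3, map_add, map_add, a1, a2, a3, a4, zero_add, add_zero, one_smul, one_smul]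
    rw [h3] at e
    rw [e]; abel

/-- the functional of a transvection is not trivial on the block of its centre -/
theorem moved [Finite W] {X : Submodule (ZMod 2) W} (hX : Blk H y X) {θ : W} (hθ : θ ∈ X) (θ0 : θ ≠ 0) (θy : θ ≠ y)
    {f d : W →ₗ[ZMod 2] ZMod 2} (hf : f ≠ 0) (s : Tvw.St H y θ f d) : ∃ x ∈ X, f x = 1 := by
  obtain ⟨Θ, h, t1, t2, t3, p1, p2, p3, F, rfl⟩ := hX
  have hm := F.blk_mem h hθ θ0 θy
  have hc := F.cd_ne_zero h hθ θ0 θy
  obtain ⟨k, rfl, -⟩ := F.eq_pv h hm hc s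
  by_contra hcon
  push Not at hcon
  apply hf
  have : k = 0 := by
    apply Tvw.dec12
    intro c
    rw [Tvw.zero_dot, ← F.pv_tv k c]
    exact (z2 _).resolve_right (hcon _ (Tvw.tv_mem_blk _ _ _ _ _))
  rw [this, Tvw.pv_zero]

/-- **the index of `C_A(X)`** -/
theorem idx_le [Finite W] {X : Submodule (ZMod 2) W} (hX : Blk H y X) (hA : A ≤ H) (sq : ∀ a ∈ A, a * a = 1)
    {u : W} (hu : u ∈ X) (u0 : u ≠ 0) (uy : u ≠ y) (hf : ∀ a ∈ A, a u = u) : (pst X).relIndex A ≤ 4 := by
  classical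
  have hfin : Finite (W ≃ₗ[ZMod 2] W) := DFunLike.finite _
  by_contra hcon
  push Not at hcon
  let Q := A ⧸ (pst X).subgroupOf A
  let _ : Fintype Q := Fintype.ofFinite Q
  have hc : 4 < Fintype.card Q := by
    rw [← Nat.card_eq_fintype_card]; exact hcon
  let q0 : Q := ((1 : A) : A ⧸ (pst X).subgroupOf A)
  have hc2 : Fintype.card (Fin 4) ≤ Fintype.card {q : Q // q ≠ q0} := by
    rw [Fintype.card_subtype_compl, Fintype.card_subtype_eq, Fintype.card_fin]
    omega
  obtain ⟨φ⟩ := Function.Embedding.nonempty_of_card_le hc2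
  choose g hg using fun i => QuotientGroup.mk_surjective (φ i).1
  have hne : ∀ i, ∃ x ∈ X, (g i : W ≃ₗ[ZMod 2] W) x ≠ x := by
    intro i
    by_contra hco
    push Not at hco
    apply (φ i).2
    rw [← hg i]
    refine (QuotientGroup.eq.mpr ?_).symm
    rw [inv_one, one_mul, mem_subgroupOf]
    exact hco
  obtain ⟨i, j, hij, hx⟩ := hX.four hu u0 uy (fun i => (g i : W ≃ₗ[ZMod 2] W)) (fun i => hA (g i).2)
    (fun i => hf _ (g i).2) (fun i x _ => ap_sq (sq _ (g i).2) x) hne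
  apply hij
  apply φ.injective
  apply Subtype.ext
  rw [← hg i, ← hg j]
  refine QuotientGroup.eq.mpr ?_
  rw [mem_subgroupOf]
  intro x hxX
  change (g i : W ≃ₗ[ZMod 2] W)⁻¹ ((g j : W ≃ₗ[ZMod 2] W) x) = x
  rw [← hx x hxX, Tvw.inv_ap]

/-- the centre of a transvection `g` commuting with `A` is fixed by the `W`-exact group `A` -/
theorem fix_ctr (b : Base H y) (hA : A ≤ H) (ex : WEx y A) {g : W ≃ₗ[ZMod 2] W} (hc : ∀ a ∈ A, a * g = g * a)
    {θ : W} {f d : W →ₗ[ZMod 2] ZMod 2} (θ0 : θ ≠ 0) (θy : θ ≠ y) (hf : f ≠ 0)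
    (e : ∀ w, g w = w + f w • θ + d w • y) {a : W ≃ₗ[ZMod 2] W} (ha : a ∈ A) : a θ = θ := by
  refine ex.fix θ (fun a ha => ?_) a ha
  obtain ⟨w, hw⟩ : ∃ w, f w = 1 := by
    by_contra hcon
    push Not at hcon
    exact hf (LinearMap.ext fun w => (z2 (f w)).resolve_right (hcon w))
  have h1 : a (g w) = g (a w) := congrArg (fun e : W ≃ₗ[ZMod 2] W => e w) (hc a ha)
  rw [e, e, map_add, map_add, map_smul, map_smul, b.fix a (hA ha), hw, one_smul] at h1
  have h2 : a θ = f (a w) • θ + (d (a w) + d w) • y := by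
    linear_combination (norm := module) h1 - (d w) • addself y
  have hne := Tvw.Blk.ne_of b (hA ha) θ0 θy
  rcases z2 (f (a w)) with h3 | h3
  · exfalso
    rw [h3, zero_smul, zero_add] at h2
    rcases z2 (d (a w) + d w) with h4 | h4 <;> rw [h4] at h2
    · exact hne.1 (by rw [h2, zero_smul])
    · exact hne.2 (by rw [h2, one_smul])
  · rw [h3, one_smul] at h2
    rcases z2 (d (a w) + d w) with h4 | h4 <;> rw [h4] at h2
    · left; rw [h2, zero_smul, add_zero]
    · right; rw [h2, one_smul]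

theorem card_sup_inf [Finite W] (P Q : Submodule (ZMod 2) W) :
    Nat.card ↥(P ⊔ Q) * Nat.card ↥(P ⊓ Q) = Nat.card P * Nat.card Q := by
  rw [Module.natCard_eq_pow_finrank (K := ZMod 2) (V := ↥(P ⊔ Q)),
    Module.natCard_eq_pow_finrank (K := ZMod 2) (V := ↥(P ⊓ Q)),
    Module.natCard_eq_pow_finrank (K := ZMod 2) (V := P), Module.natCard_eq_pow_finrank (K := ZMod 2) (V := Q),
    ← pow_add, ← pow_add, Submodule.finrank_sup_add_finrank_inf_eq]

theorem card_le_of_le [Finite W] {P Q : Submodule (ZMod 2) W} (h : P ≤ Q) : Nat.card P ≤ Nat.card Q :=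
  Nat.card_le_card_of_injective (Submodule.inclusion h) (Submodule.inclusion_injective h)

theorem eq_of_le_card [Finite W] {P Q : Submodule (ZMod 2) W} (h : P ≤ Q) (h2 : Nat.card Q ≤ Nat.card P) :
    P = Q := by
  apply SetLike.coe_injective
  refine Set.eq_of_subset_of_ncard_le h ?_ (Set.toFinite _)
  exact h2

/-- **one block** : `B = C_A(X)` has index 4 in `A`, is `W`-exact, `C_W(B) = X + C_W(A)` -/
theorem step [Finite W] (b : Base H y) (hA : A ≤ H) (sq : ∀ a ∈ A, a * a = 1) (ex : WEx y A)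
    (no : ∀ B ≤ A, Nat.card B * Nat.card (cm y B) ≤ Nat.card W) {g : W ≃ₗ[ZMod 2] W} (hg : g ∈ A)
    {θ : W} {f d : W →ₗ[ZMod 2] ZMod 2} (θ0 : θ ≠ 0) (θy : θ ≠ y) (hf : f ≠ 0)
    (e : ∀ w, g w = w + f w • θ + d w • y) {X : Submodule (ZMod 2) W} (hX : Blk H y X) (hθ : θ ∈ X) :
    4 * Nat.card ↥(A ⊓ pst X) = Nat.card A ∧ cw (A ⊓ pst X) = X ⊔ cw A ∧ WEx y (A ⊓ pst X) := by
  classical
  have hfin : Finite (W ≃ₗ[ZMod 2] W) := DFunLike.finite _
  have hfix : ∀ a ∈ A, a θ = θ := fun a ha =>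
    fix_ctr b hA ex (fun a ha => comm_of_sq sq ha hg) θ0 θy hf e ha
  have hXi : ∀ a ∈ A, ∀ x ∈ X, a x ∈ X := fun a ha x hx =>
    hX.inv_of (hA ha) hθ θ0 θy (by rw [hfix a ha]; exact hθ) hx
  have hidx := idx_le hX hA sq hθ θ0 θy hfix
  -- `|A| ≤ 4 |B|`
  have h1 : Nat.card A = Nat.card ↥(A ⊓ pst X) * (pst X).relIndex A := by
    have h2 := relIndex_mul_relIndex ⊥ (A ⊓ pst X) A bot_le inf_le_left
    rw [relIndex_bot_left, relIndex_bot_left] at h2
    rw [← h2, inf_relIndex_left]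
  have h2 : Nat.card A ≤ 4 * Nat.card ↥(A ⊓ pst X) := by
    rw [h1, mul_comm]; exact Nat.mul_le_mul_right _ hidx
  -- `|X ∩ C_W(A)| ≤ 4`
  obtain ⟨x, hx, fx⟩ := moved hX hθ θ0 θy hf ⟨g, hA hg, e⟩
  obtain ⟨θ', hθ', t0, ty, hC, -⟩ := hX.inv (hA hg) (hXi g hg) (fun x _ => ap_sq (sq g hg) x) ⟨x, hx, by
    intro h3
    rw [e x, fx, one_smul] at h3
    have h4 : (1 : ZMod 2) • θ + d x • y = 0 := by
      rw [one_smul]; rw [add_assoc] at h3; simpa using h3
    exact one_ne_zero (Tvw.indep θ0 θy b.y0 h4).1⟩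
  have h3 : Nat.card ↥(X ⊓ cw A) ≤ 4 := by
    have h4 : ((X ⊓ cw A : Submodule (ZMod 2) W) : Set W) ⊆ (({0, y, θ', θ' + y} : Finset W) : Set W) := by
      rintro w ⟨hw1, hw2⟩
      have := (hC w hw1).mp (hw2 g hg)
      simpa using this
    have h5 := Set.ncard_le_ncard h4 (Finset.finite_toSet _)
    rw [Set.ncard_coe_finset] at h5
    exact h5.trans Finset.card_le_four
  have h4 := card_sup_inf X (cw A)
  rw [hX.card] at h4
  have h5 : 4 * Nat.card (cw A) ≤ Nat.card ↥(X ⊔ cw A) := by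
    have h6 : Nat.card ↥(X ⊔ cw A) * Nat.card ↥(X ⊓ cw A) ≤ Nat.card ↥(X ⊔ cw A) * 4 :=
      Nat.mul_le_mul_left _ h3
    omega
  have h6 : X ⊔ cw A ≤ cw (A ⊓ pst X) := by
    refine sup_le (fun x hx a ha => ha.2 x hx) fun w hw a ha => hw a ha.1
  have h7 : Nat.card ↥(X ⊔ cw A) ≤ Nat.card ↥(cw (A ⊓ pst X)) := card_le_of_le h6
  have h8 : Nat.card ↥(cw (A ⊓ pst X)) ≤ Nat.card ↥(cms y (A ⊓ pst X)) := card_le_of_le cw_le_cms
  have h9 : Nat.card ↥(A ⊓ pst X) * Nat.card ↥(cms y (A ⊓ pst X)) ≤ Nat.card W := no _ inf_le_left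
  have h10 := ex.card
  set β := Nat.card ↥(A ⊓ pst X) with hβ
  set γ := Nat.card ↥(cw A) with hγ
  set δ := Nat.card ↥(cms y (A ⊓ pst X)) with hδ
  have hβ0 : 0 < β := Nat.card_pos
  have hγ0 : 0 < γ := Nat.card_pos
  have h11 : 4 * γ ≤ δ := h5.trans (h7.trans h8)
  -- `|W| = |A| γ ≤ 4 β γ ≤ β δ ≤ |W|`
  have h12 : Nat.card A * γ ≤ 4 * β * γ := Nat.mul_le_mul_right _ h2
  have h13 : β * (4 * γ) ≤ β * δ := Nat.mul_le_mul_left _ h11
  have h14 : 4 * β * γ = β * (4 * γ) := by ring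
  have h15 : β * (4 * γ) = β * δ := by omega
  have h16 : 4 * γ = δ := Nat.eq_of_mul_eq_mul_left hβ0 h15
  have h17 : Nat.card A * γ = 4 * β * γ := by omega
  have h18 : 4 * β = Nat.card A := (Nat.eq_of_mul_eq_mul_right hγ0 h17).symm
  have h19 : X ⊔ cw A = cw (A ⊓ pst X) := eq_of_le_card h6 (by omega)
  have h20 : cw (A ⊓ pst X) = cms y (A ⊓ pst X) := eq_of_le_card cw_le_cms (by omega)
  refine ⟨h18, h19.symm, ?_, ?_⟩
  · show β * δ = Nat.card W
    omega
  · intro w hw
    have : w ∈ cms y (A ⊓ pst X) := hw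
    rw [← h20] at this
    exact this

/-- atoms exist -/
theorem exists_atom [Finite W] (hne : A ≠ ⊥) (ex : MEx y A) : ∃ B ≤ A, MAtom y B := by
  classical
  have hfin : Finite (W ≃ₗ[ZMod 2] W) := DFunLike.finite _
  have hfs : Finite (Subgroup (W ≃ₗ[ZMod 2] W)) :=
    Finite.of_injective (fun X : Subgroup (W ≃ₗ[ZMod 2] W) => (X : Set (W ≃ₗ[ZMod 2] W))) SetLike.coe_injective
  have hf : {B : Subgroup (W ≃ₗ[ZMod 2] W) | B ≤ A ∧ B ≠ ⊥ ∧ MEx y B}.Finite := Set.toFinite _
  obtain ⟨B, ⟨hB1, hB2, hB3⟩, hmin⟩ := hf.exists_minimal ⟨A, le_rfl, hne, ex⟩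
  exact ⟨B, hB1, hB2, hB3, fun B' h1 h2 h3 => le_antisymm h1 (hmin ⟨h1.trans hB1, h2, h3⟩ h1)⟩

/-- an `M`-exact group of order 2 is generated by a transvection of `W / y` -/
theorem isTm_of [Finite W] (y0 : y ≠ 0) (ex : MEx y B) (h2 : Nat.card B = 2) : ∃ g ∈ B, IsTm y g := by
  classical
  have hfin : Finite (W ≃ₗ[ZMod 2] W) := DFunLike.finite _
  obtain ⟨g, hg, hg1⟩ : ∃ g ∈ B, g ≠ 1 := by
    by_contra hcon
    push Not at hcon
    have : B = ⊥ := (Subgroup.eq_bot_iff_forall B).mpr hcon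
    rw [this, Subgroup.card_bot] at h2
    omega
  have hB : ∀ x ∈ B, x = 1 ∨ x = g := by
    intro x hx
    by_contra hcon
    push Not at hcon
    have h3 : (({1, g, x} : Finset (W ≃ₗ[ZMod 2] W)) : Set (W ≃ₗ[ZMod 2] W)) ⊆ (B : Set (W ≃ₗ[ZMod 2] W)) := by
      intro k hk
      simp only [Finset.coe_insert, Finset.coe_singleton, Set.mem_insert_iff, Set.mem_singleton_iff] at hk
      rcases hk with rfl | rfl | rfl
      · exact B.one_mem
      · exact hg
      · exact hx
    have h4 := Set.ncard_le_ncard h3 (Set.toFinite _)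
    rw [Set.ncard_coe_finset, Finset.card_eq_three.mpr ⟨1, g, x, hg1.symm, hcon.1.symm, hcon.2.symm, rfl⟩] at h4
    have h5 : (B : Set (W ≃ₗ[ZMod 2] W)).ncard = 2 := h2
    omega
  -- a vector outside `cm`
  have h3 : ∃ w0, w0 ∉ cms y B := by
    by_contra hcon
    push Not at hcon
    have h4 : cms y B = ⊤ := by rw [eq_top_iff]; intro w _; exact hcon w
    have h5 : Nat.card B * Nat.card (cms y B) = Nat.card W := ex
    rw [h4, h2, Nat.card_congr (Submodule.topEquiv (R := ZMod 2) (M := W)).toEquiv] at h5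
    have : 0 < Nat.card W := Nat.card_pos
    omega
  obtain ⟨w0, hw0⟩ := h3
  have hw0' : g w0 ≠ w0 ∧ g w0 ≠ w0 + y := by
    constructor
    · intro h4
      apply hw0
      intro k hk
      rcases hB k hk with rfl | rfl
      · left; rfl
      · left; exact h4
    · intro h4
      apply hw0
      intro k hk
      rcases hB k hk with rfl | rfl
      · left; rfl
      · right; exact h4
  have θ0 : g w0 + w0 ≠ 0 := fun h4 => hw0'.1 (Tvw.eq_of_add_eq_zero' h4)
  have θy : g w0 + w0 ≠ y := fun h4 => hw0'.2 (by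
    rw [← h4]; linear_combination (norm := module) (-1 : ZMod 2) • addself w0)
  -- `cm` has index 2
  have h4 : ∀ w, w ∈ cms y B ∨ w + w0 ∈ cms y B := by
    have h5 : Nat.card B * Nat.card (cms y B) = Nat.card W := ex
    rw [h2] at h5
    intro w
    by_contra hcon
    push Not at hcon
    -- three cosets
    have h6 : Disjoint ((cms y B : Submodule (ZMod 2) W) : Set W) ((fun v => v + w0) '' (cms y B : Set W)) := by
      rw [Set.disjoint_left]
      rintro v hv ⟨v', hv', rfl⟩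
      apply hw0
      have := (cms y B).add_mem hv hv'
      have e1 : v' + w0 + v' = w0 := by linear_combination (norm := module) addself v'
      rwa [show (fun v => v + w0) v' + v' = w0 from e1] at this
    have h7 : w ∉ ((cms y B : Submodule (ZMod 2) W) : Set W) ∪ ((fun v => v + w0) '' (cms y B : Set W)) := by
      rintro (h8 | ⟨v, hv, rfl⟩)
      · exact hcon.1 h8
      · apply hcon.2
        have e1 : (fun v => v + w0) v + w0 = v := by
          change v + w0 + w0 = v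
          linear_combination (norm := module) addself w0
        rw [e1]; exact hv
    have h8 : (((cms y B : Submodule (ZMod 2) W) : Set W) ∪ ((fun v => v + w0) '' (cms y B : Set W))).ncard <
        (Set.univ : Set W).ncard :=
      Set.ncard_lt_ncard ⟨Set.subset_univ _, fun h9 => h7 (h9 (Set.mem_univ w))⟩ (Set.toFinite _)
    rw [Set.ncard_union_eq h6 (Set.toFinite _) (Set.toFinite _), Set.ncard_image_of_injective _
      (add_left_injective w0), Set.ncard_univ] at h8
    have h9 : ((cms y B : Submodule (ZMod 2) W) : Set W).ncard = Nat.card (cms y B) := rfl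
    omega
  have h5 : ∀ w, g w + w = 0 ∨ g w + w = y ∨ g w + w = g w0 + w0 ∨ g w + w = g w0 + w0 + y := by
    intro w
    rcases h4 w with h6 | h6
    · rcases h6 g hg with h7 | h7
      · left; rw [h7]; exact addself w
      · right; left; rw [h7]; linear_combination (norm := module) addself w
    · rcases h6 g hg with h7 | h7
      · right; right; left
        rw [map_add] at h7
        linear_combination (norm := module) h7 + addself w - addself (g w0)
      · right; right; right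
        rw [map_add] at h7
        linear_combination (norm := module) h7 + addself w - addself (g w0)
  obtain ⟨f, d, e⟩ := exists_fd y0 θ0 θy h5
  refine ⟨g, hg, _, f, d, θ0, θy, ?_, e⟩
  rintro rfl
  have h6 := e w0
  rw [LinearMap.zero_apply, zero_smul, add_zero] at h6
  rcases z2 (d w0) with h7 | h7 <;> rw [h7] at h6
  · exact hw0'.1 (by rw [h6, zero_smul, add_zero])
  · exact hw0'.2 (by rw [h6, one_smul])

/-- the frame of the induction -/
structure Out (H : Subgroup (W ≃ₗ[ZMod 2] W)) (y : W) (A : Subgroup (W ≃ₗ[ZMod 2] W))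
    (J : Finset (Submodule (ZMod 2) W)) : Prop where
  blk : ∀ X ∈ J, Blk H y X ∧ ∃ g ∈ A, ∃ (θ : W) (f d : W →ₗ[ZMod 2] ZMod 2), θ ∈ X ∧ θ ≠ 0 ∧ θ ≠ y ∧ f ≠ 0 ∧
    ∀ w, g w = w + f w • θ + d w • y
  card : Nat.card A = 4 ^ J.card
  gen : ∀ w, ∃ v ∈ J.sup id, w + v ∈ cw A
  cl : A ≤ Subgroup.closure {g | g ∈ A ∧ IsTv H y g}

/-- the pointwise stabiliser of a finite set of blocks -/
theorem idx_sup [Finite W] {D : Subgroup (W ≃ₗ[ZMod 2] W)} (J : Finset (Submodule (ZMod 2) W))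
    (h : ∀ X ∈ J, (pst X).relIndex D ≤ 4) : (pst (J.sup id)).relIndex D ≤ 4 ^ J.card := by
  classical
  have hfin : Finite (W ≃ₗ[ZMod 2] W) := DFunLike.finite _
  induction J using Finset.induction_on with
  | empty =>
    have : pst (W := W) ((∅ : Finset (Submodule (ZMod 2) W)).sup id) = ⊤ := by
      rw [eq_top_iff]
      intro g _ x hx
      rw [Finset.sup_empty, Submodule.mem_bot] at hx
      rw [hx, map_zero]
    rw [this, relIndex_top_left]
    simp
  | insert X J hXJ ih =>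
    have h1 := ih fun X' hX' => h X' (Finset.mem_insert_of_mem hX')
    have h2 := h X (Finset.mem_insert_self X J)
    rw [Finset.card_insert_of_notMem hXJ, Finset.sup_insert, pow_succ]
    have h3 : pst (W := W) (X ⊔ J.sup id) = pst X ⊓ pst (J.sup id) := by
      ext g
      constructor
      · intro hg
        exact ⟨fun x hx => hg x (Submodule.mem_sup_left hx), fun x hx => hg x (Submodule.mem_sup_right hx)⟩
      · rintro ⟨hg1, hg2⟩ x hx
        obtain ⟨a, ha, c, hc, rfl⟩ := Submodule.mem_sup.mp hx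
        rw [map_add, hg1 a ha, hg2 c hc]
    change (pst (X ⊔ J.sup id)).relIndex D ≤ _
    rw [h3]
    calc (pst X ⊓ pst (J.sup id)).relIndex D ≤ (pst X).relIndex D * (pst (J.sup id)).relIndex D :=
          relIndex_inf_le
      _ ≤ 4 * 4 ^ J.card := Nat.mul_le_mul h2 h1
      _ = _ := by ring

theorem split_aux [Finite W] (b : Base H y) : ∀ n : ℕ, ∀ A : Subgroup (W ≃ₗ[ZMod 2] W), A ≤ H → Nat.card A = n →
    (∀ a ∈ A, a * a = 1) → WEx y A → (∀ B ≤ A, Nat.card B * Nat.card (cm y B) ≤ Nat.card W) →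
    (∀ B ≤ A, B ≠ ⊥ → WEx y B → ∃ g ∈ B, IsTv H y g) → ∃ J, Out H y A J := by
  classical
  have hfin : Finite (W ≃ₗ[ZMod 2] W) := DFunLike.finite _
  intro n
  induction n using Nat.strong_induction_on with
  | _ n ih =>
  intro A hA hn sq ex no htv
  by_cases hbot : A = ⊥
  · subst hbot
    refine ⟨∅, by simp, by simp, fun w => ⟨0, Submodule.zero_mem _, ?_⟩, bot_le⟩
    intro a ha
    rw [mem_bot.mp ha]; rfl
  obtain ⟨g, hg, θ, f, d, θ0, θy, hf, e, hs⟩ := htv A le_rfl hbot ex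
  obtain ⟨X, hX, hθ⟩ := Blk.exists_of_tv b (hA hg) θ0 θy hf e hs
  obtain ⟨s1, s2, s3⟩ := step b hA sq ex no hg θ0 θy hf e hX hθ
  set B := A ⊓ pst X with hBdef
  have hBA : B ≤ A := inf_le_left
  have hBpos : 0 < Nat.card B := Nat.card_pos
  obtain ⟨J, O⟩ := ih (Nat.card B) (by omega) B (hBA.trans hA) rfl (fun a ha => sq a (hBA ha)) s3
    (fun B' h' => no B' (h'.trans hBA)) (fun B' h' => htv B' (h'.trans hBA))
  -- `C = C_A(Σ J)`
  have hidx : ∀ X' ∈ J, (pst X').relIndex A ≤ 4 := by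
    intro X' hX'
    obtain ⟨hb, g', hg', θ', f', d', hθ', t0, ty, hf', e'⟩ := O.blk X' hX'
    refine idx_le hb hA sq hθ' t0 ty fun a ha => ?_
    exact fix_ctr b hA ex (fun a ha => comm_of_sq sq ha (hBA hg')) t0 ty hf' e' ha
  have hC1 := idx_sup J hidx
  set C := A ⊓ pst (J.sup id) with hCdef
  have hCA : C ≤ A := inf_le_left
  have h1 : Nat.card A = Nat.card C * (pst (J.sup id)).relIndex A := by
    have h2 := relIndex_mul_relIndex ⊥ C A bot_le inf_le_left
    rw [relIndex_bot_left, relIndex_bot_left] at h2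
    rw [← h2, hCdef, inf_relIndex_left]
  have h2 : Nat.card A ≤ Nat.card C * Nat.card B := by
    rw [h1, O.card]; exact Nat.mul_le_mul_left _ hC1
  -- `C ∩ B = 1`
  have h3 : ∀ c ∈ C, c ∈ B → c = 1 := by
    intro c hc hcB
    ext w
    obtain ⟨v, hv, hwv⟩ := O.gen w
    have e1 := hwv c hcB
    rw [map_add, hc.2 v hv] at e1
    exact add_right_cancel e1
  have h4 : 4 ≤ Nat.card C := by
    by_contra hcon
    push Not at hcon
    have : Nat.card C * Nat.card B ≤ 3 * Nat.card B := Nat.mul_le_mul_right _ (by omega)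
    omega
  -- the elements of `C`
  have h5 : ∀ c ∈ C, c ≠ 1 → IsTv H y c := by
    intro c hc c1
    have hcA := hCA hc
    have key : ∀ w, ∃ x ∈ X, c w + w = c x + x := by
      intro w
      obtain ⟨v, hv, hwv⟩ := O.gen w
      rw [s2] at hwv
      obtain ⟨x, hx, a, ha, e1⟩ := Submodule.mem_sup.mp hwv
      refine ⟨x, hx, ?_⟩
      have e2 : w = x + a + v := by
        rw [e1]; linear_combination (norm := module) (-1 : ZMod 2) • addself v
      rw [e2, map_add, map_add, hc.2 v hv, ha c hcA]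
      linear_combination (norm := module) addself a + addself v
    have hXi : ∀ x ∈ X, c x ∈ X := fun x hx => hX.inv_of (hA hcA) hθ θ0 θy (by
      rw [fix_ctr b hA ex (fun a ha => comm_of_sq sq ha hg) θ0 θy hf e hcA]; exact hθ) hx
    have hne : ∃ x ∈ X, c x ≠ x := by
      by_contra hcon
      push Not at hcon
      apply c1
      ext w
      obtain ⟨x, hx, e1⟩ := key w
      rw [hcon x hx, addself] at e1
      exact Tvw.eq_of_add_eq_zero' e1
    obtain ⟨θ', hθ', t0, ty, hCx, -⟩ := hX.inv (hA hcA) hXi (fun x _ => ap_sq (sq c hcA) x) hne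
    have h6 : ∀ w, c w + w = 0 ∨ c w + w = y ∨ c w + w = θ' ∨ c w + w = θ' + y := by
      intro w
      obtain ⟨x, hx, e1⟩ := key w
      rw [e1]
      refine (hCx _ (X.add_mem (hXi x hx) hx)).mp ?_
      rw [map_add, ap_sq (sq c hcA), add_comm]
    obtain ⟨f', d', e'⟩ := exists_fd b.y0 t0 ty h6
    refine ⟨θ', f', d', t0, ty, ?_, e', hX.swap hθ' t0 ty⟩
    rintro rfl
    apply c1
    refine b.faith c (hA hcA) fun w => ?_
    have e1 := e' w
    rw [LinearMap.zero_apply, zero_smul, add_zero] at e1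
    rcases z2 (d' w) with e2 | e2 <;> rw [e2] at e1
    · left; rw [e1, zero_smul, add_zero]
    · right; rw [e1, one_smul]
  have hXJ : X ∉ J := by
    intro hXJ
    have h6 : C ≤ B := by
      intro c hc
      refine ⟨hCA hc, fun x hx => hc.2 x ?_⟩
      exact (Finset.le_sup (f := id) hXJ : X ≤ J.sup id) hx
    have h7 : C = ⊥ := (Subgroup.eq_bot_iff_forall C).mpr fun c hc => h3 c hc (h6 hc)
    rw [h7, Subgroup.card_bot] at h4
    omega
  refine ⟨insert X J, ?_, ?_, ?_, ?_⟩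
  · intro X' hX'
    rcases Finset.mem_insert.mp hX' with rfl | hX'
    · exact ⟨hX, g, hg, θ, f, d, hθ, θ0, θy, hf, e⟩
    · obtain ⟨hb, g', hg', r⟩ := O.blk X' hX'
      exact ⟨hb, g', hBA hg', r⟩
  · rw [Finset.card_insert_of_notMem hXJ, pow_succ, ← O.card, ← s1, mul_comm]
  · intro w
    obtain ⟨v, hv, hwv⟩ := O.gen w
    rw [s2] at hwv
    obtain ⟨x, hx, a, ha, e1⟩ := Submodule.mem_sup.mp hwv
    refine ⟨v + x, ?_, ?_⟩
    · rw [Finset.sup_insert]
      exact Submodule.add_mem _ (Submodule.mem_sup_right hv) (Submodule.mem_sup_left hx)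
    · have e2 : w + (v + x) = a := by
        rw [← add_assoc, ← e1]; linear_combination (norm := module) addself x
      rw [e2]; exact ha
  · -- `A = B C`
    set K := Subgroup.closure {g | g ∈ A ∧ IsTv H y g} with hK
    have hBK : B ≤ K := O.cl.trans (closure_mono fun g hg => ⟨hBA hg.1, hg.2⟩)
    have hCK : C ≤ K := by
      intro c hc
      by_cases c1 : c = 1
      · rw [c1]; exact K.one_mem
      · exact subset_closure ⟨hCA hc, h5 c hc c1⟩
    let φ : C × B → A := fun p => ⟨p.1 * p.2, A.mul_mem (hCA p.1.2) (hBA p.2.2)⟩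
    have hφ : Function.Injective φ := by
      rintro ⟨c, k⟩ ⟨c', k'⟩ hh
      have h6 : (c : W ≃ₗ[ZMod 2] W) * k = c' * k' := congrArg Subtype.val hh
      have h7 : (c' : W ≃ₗ[ZMod 2] W)⁻¹ * c = k' * (k : W ≃ₗ[ZMod 2] W)⁻¹ := by
        rw [inv_mul_eq_iff_eq_mul, ← mul_assoc, ← h6, mul_inv_cancel_right]
      have h8 := h3 _ (C.mul_mem (C.inv_mem c'.2) c.2) (by rw [h7]; exact B.mul_mem k'.2 (B.inv_mem k.2))
      have h9 : (c' : W ≃ₗ[ZMod 2] W) = c := inv_mul_eq_one.mp h8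
      rw [h9] at h6
      have h10 := mul_left_cancel h6
      exact Prod.ext (Subtype.ext h9.symm) (Subtype.ext h10)
    have hφ2 : Function.Surjective φ := by
      refine (Function.Injective.bijective_of_nat_card_le hφ ?_).2
      rw [Nat.card_prod]; exact h2
    intro a ha
    obtain ⟨⟨c, k⟩, hck⟩ := hφ2 ⟨a, ha⟩
    have : (c : W ≃ₗ[ZMod 2] W) * k = a := congrArg Subtype.val hck
    rw [← this]
    exact K.mul_mem (hCK c.2) (hBK k.2)

/-- **SPLIT LEMMA** -/
theorem split [Finite W] (b : Base H y) (hA : A ≤ H) (sq : ∀ a ∈ A, a * a = 1) (ex : WEx y A)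
    (no : ∀ B ≤ A, Nat.card B * Nat.card (cm y B) ≤ Nat.card W)
    (htv : ∀ B ≤ A, B ≠ ⊥ → WEx y B → ∃ g ∈ B, IsTv H y g) :
    A ≤ Subgroup.closure {g | g ∈ A ∧ IsTv H y g} := by
  obtain ⟨J, O⟩ := split_aux b _ A hA rfl sq ex no htv
  exact O.cl

/-- atoms of order 2 are enough -/
theorem exists_tv_of [Finite W] (y0 : y ≠ 0) (ex : MEx y A) (hne : A ≠ ⊥)
    (hat : ∀ B ≤ A, MAtom y B → Nat.card B = 2) (htv : ∀ g ∈ A, IsTm y g → IsTv H y g) : ∃ g ∈ A, IsTv H y g := by
  obtain ⟨B₁, hB₁, hB₁a⟩ := exists_atom hne ex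
  obtain ⟨g, hgB, hgt⟩ := isTm_of y0 hB₁a.ex (hat B₁ hB₁ hB₁a)
  exact ⟨g, hB₁ hgB, htv g (hB₁ hgB) hgt⟩

end

end Cfsg.Agent.Omega.FOne.NOv

end

section


/-!
# THEOREM AB (helper937, bb OMEGA #20929), part (6): the sum `v` of the orbit of `lam`

`Γ` acts on the `𝔽₂`-space `V`, fixes `y ≠ 0`; `L` normal, `Γ = L T`, `|Γ : T|` odd, `T` fixes `x` modulo `y`.

* `exists_sum` : there is `v` (the sum of representatives of the `L`-orbit of `x` modulo `y`) with
  (a) `v` is fixed by `Γ` modulo `y`;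
  (b) `x + v` lies in every subspace which contains `y` and the `l x + x`, `l ∈ L`;
  (c) an element which fixes all `l x + x`, `l ∈ L`, fixes `x + v`;
  (d) an involution `f ∈ L` which swaps the lifts of no `l x` fixes `v`.
-/

set_option autoImplicit false
set_option linter.unusedSectionVars false

namespace Cfsg.Agent.Omega.NO3S.FarQ.AB

open Subgroup
open Cfsg.Agent.Omega.FOne.Tvw (z2 addself)

section idx

variable {Γ : Type*} [Group Γ] [Finite Γ] {L T : Subgroup Γ}

/-- `|L : L ∩ T| = |Γ : T|` for `Γ = L T`, `L` normal -/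
theorem relIndex_eq_index [L.Normal] (h : L ⊔ T = ⊤) : T.relIndex L = T.index := by
  have h5 : L.relIndex T = L.index := by
    have h6 := relIndex_sup_left T L
    rw [h, relIndex_top_right] at h6
    exact h6.symm
  have h1 := L.card_mul_index
  have h2 := T.card_mul_index
  have h3 : Nat.card (L ⊓ T : Subgroup Γ) * L.relIndex T = Nat.card T := by
    have := relIndex_mul_relIndex ⊥ (L ⊓ T) T bot_le inf_le_right
    rwa [relIndex_bot_left, relIndex_bot_left, inf_relIndex_right] at this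
  have h4 : Nat.card (L ⊓ T : Subgroup Γ) * T.relIndex L = Nat.card L := by
    have := relIndex_mul_relIndex ⊥ (L ⊓ T) L bot_le inf_le_left
    rwa [relIndex_bot_left, relIndex_bot_left, inf_relIndex_left] at this
  have h7 : 0 < Nat.card (L ⊓ T : Subgroup Γ) := Nat.card_pos
  have h8 : 0 < L.index := Nat.pos_of_ne_zero L.index_ne_zero_of_finite
  have h9 : (Nat.card (L ⊓ T : Subgroup Γ) * L.index) * T.relIndex L =
      (Nat.card (L ⊓ T : Subgroup Γ) * L.index) * T.index := by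
    calc (Nat.card (L ⊓ T : Subgroup Γ) * L.index) * T.relIndex L
        = (Nat.card (L ⊓ T : Subgroup Γ) * T.relIndex L) * L.index := by ring
      _ = Nat.card T * T.index := by rw [h4, h1, h2]
      _ = (Nat.card (L ⊓ T : Subgroup Γ) * L.index) * T.index := by rw [← h3, h5]
  exact Nat.eq_of_mul_eq_mul_left (Nat.mul_pos h7 h8) h9

end idx

variable {Γ : Type*} [Group Γ] [Finite Γ] {V : Type*} [AddCommGroup V] [Module (ZMod 2) V] [Finite V]
  (ψ : Γ →* (V ≃ₗ[ZMod 2] V)) {y x : V} {L T : Subgroup Γ}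

theorem exists_pi (y0 : y ≠ 0) : ∃ π : V →ₗ[ZMod 2] ZMod 2, π y = 1 := by
  have h1 : y ∉ (⊥ : Submodule (ZMod 2) V) := by rwa [Submodule.mem_bot]
  obtain ⟨φ, φ1, -⟩ := Submodule.exists_le_ker_of_notMem h1
  exact ⟨φ, (z2 _).resolve_left φ1⟩

theorem nsmul_odd {n : ℕ} (hn : ¬ 2 ∣ n) (w : V) : n • w = w := by
  obtain ⟨k, hk⟩ := Nat.not_even_iff_odd.mp (fun h => hn h.two_dvd)
  rw [hk, add_nsmul, one_nsmul, mul_nsmul, two_nsmul, addself, nsmul_zero, zero_add]

/-- the sum of an orbit -/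
theorem exists_sum (y0 : y ≠ 0) (hy : ∀ g, ψ g y = y) [L.Normal] (hLT : L ⊔ T = ⊤) (hT : ¬ 2 ∣ T.index)
    (hx : ∀ t ∈ T, ψ t x = x ∨ ψ t x = x + y) :
    ∃ v : V, (∀ g, ψ g v = v ∨ ψ g v = v + y) ∧
      (∀ U : Submodule (ZMod 2) V, y ∈ U → (∀ l ∈ L, ψ l x + x ∈ U) → x + v ∈ U) ∧
      (∀ κ : Γ, (∀ l ∈ L, ψ κ (ψ l x + x) = ψ l x + x) → ψ κ (x + v) = x + v) ∧
      (∀ f ∈ L, f * f = 1 → (∀ l ∈ L, ψ f (ψ l x) ≠ ψ l x + y) → ψ f v = v) := by
  classical
  obtain ⟨π, hπ⟩ := exists_pi y0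
  -- the projection
  let s : V →ₗ[ZMod 2] V := LinearMap.id + π.smulRight y
  have hs : ∀ w, s w = w + π w • y := fun w => rfl
  have sy : s y = 0 := by rw [hs, hπ, one_smul, addself]
  have hπs : ∀ w, π (s w) = 0 := by
    intro w
    rw [hs, map_add, map_smul, hπ, smul_eq_mul, mul_one]
    exact FOne.Tvw.z2add _
  have hsg : ∀ (g : Γ) (w : V), s (ψ g (s w)) = s (ψ g w) := by
    intro g w
    rw [hs w, map_add, map_smul, hy, map_add, map_smul, sy, smul_zero, add_zero]
  have hs0 : ∀ {w}, π w = 0 → s w = w := by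
    intro w h
    rw [hs, h, zero_smul, add_zero]
  have hsy : ∀ w, s (w + y) = s w := fun w => by rw [map_add, sy, add_zero]
  have hmul : ∀ (g h : Γ) (w : V), ψ (g * h) w = ψ g (ψ h w) := fun g h w => by rw [map_mul]; rfl
  -- the orbit
  let O : Finset V := (Set.toFinite (Set.range fun l : L => s (ψ (l : Γ) x))).toFinset
  have hO : ∀ μ, μ ∈ O ↔ ∃ l ∈ L, s (ψ l x) = μ := by
    intro μ
    rw [Set.Finite.mem_toFinset]
    constructor
    · rintro ⟨l, rfl⟩; exact ⟨l, l.2, rfl⟩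
    · rintro ⟨l, hl, rfl⟩; exact ⟨⟨l, hl⟩, rfl⟩
  have hπO : ∀ μ ∈ O, π μ = 0 := by
    intro μ hμ
    obtain ⟨l, -, rfl⟩ := (hO μ).mp hμ
    exact hπs _
  have hxT : ∀ t ∈ T, s (ψ t x) = s x := by
    intro t ht
    rcases hx t ht with h | h <;> rw [h]
    exact hsy x
  have hdec : ∀ g : Γ, ∃ l ∈ L, s (ψ g x) = s (ψ l x) := by
    intro g
    have hg : g ∈ L ⊔ T := by rw [hLT]; exact mem_top g
    obtain ⟨l, hl, t, ht, rfl⟩ := mem_sup_of_normal_left.mp hg
    refine ⟨l, hl, ?_⟩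
    rw [hmul, ← hsg l (ψ t x), hxT t ht, hsg]
  have hact : ∀ (g : Γ), ∀ μ ∈ O, s (ψ g μ) ∈ O := by
    intro g μ hμ
    obtain ⟨l, hl, rfl⟩ := (hO μ).mp hμ
    obtain ⟨l1, hl1, e1⟩ := hdec g
    refine (hO _).mpr ⟨g * l * g⁻¹ * l1, L.mul_mem (Normal.conj_mem inferInstance l hl g) hl1, ?_⟩
    rw [hsg, hmul, ← hsg (g * l * g⁻¹) (ψ l1 x), ← e1, hsg, ← hmul, ← hmul]
    congr 3
    group
  have hinvO : ∀ (g : Γ), ∀ μ ∈ O, s (ψ g⁻¹ (s (ψ g μ))) = μ := by
    intro g μ hμ
    rw [hsg, ← hmul, inv_mul_cancel, map_one]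
    exact hs0 (hπO μ hμ)
  have hinvO' : ∀ (g : Γ), ∀ μ ∈ O, s (ψ g (s (ψ g⁻¹ μ))) = μ := by
    intro g μ hμ
    have := hinvO g⁻¹ μ hμ
    rwa [inv_inv] at this
  -- the size of the orbit is odd
  have hcard : ¬ 2 ∣ O.card := by
    let St : Subgroup L :=
      { carrier := {l | s (ψ (l : Γ) x) = s x}
        one_mem' := by
          change s (ψ ((1 : L) : Γ) x) = s x
          rw [OneMemClass.coe_one, map_one]; rfl
        mul_mem' := by
          intro a b ha hb
          change s (ψ ((a * b : L) : Γ) x) = s x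
          rw [Subgroup.coe_mul, hmul, ← hsg (a : Γ) (ψ (b : Γ) x), show s (ψ (b : Γ) x) = s x from hb, hsg]
          exact ha
        inv_mem' := by
          intro a ha
          change s (ψ ((a⁻¹ : L) : Γ) x) = s x
          have h1 : s (ψ (a : Γ) x) = s x := ha
          have h2 : s (ψ (a : Γ)⁻¹ (s (ψ (a : Γ) x))) = s x := by
            rw [hsg, ← hmul, inv_mul_cancel, map_one]; rfl
          rw [h1, hsg] at h2
          exact h2 }
    have hmem : ∀ l : L, s (ψ (l : Γ) x) ∈ O := fun l => (hO _).mpr ⟨l, l.2, rfl⟩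
    have hlift : ∀ a b : L, a⁻¹ * b ∈ St → s (ψ (a : Γ) x) = s (ψ (b : Γ) x) := by
      intro a b hab
      have h1 : s (ψ ((a⁻¹ * b : L) : Γ) x) = s x := hab
      have h2 : (b : Γ) = a * ((a⁻¹ * b : L) : Γ) := by
        rw [Subgroup.coe_mul, Subgroup.coe_inv]; group
      rw [h2, hmul, ← hsg (a : Γ) (ψ _ x), h1, hsg]
    let F : L ⧸ St → O := fun q => Quotient.liftOn' q (fun l => (⟨s (ψ (l : Γ) x), hmem l⟩ : O))
      (fun a b hab => Subtype.ext (hlift a b (QuotientGroup.leftRel_apply.mp hab)))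
    have hF : Function.Bijective F := by
      constructor
      · intro q q'
        induction q using QuotientGroup.induction_on with
        | H a =>
          induction q' using QuotientGroup.induction_on with
          | H b =>
            intro h
            have h1 : s (ψ (a : Γ) x) = s (ψ (b : Γ) x) := congrArg Subtype.val h
            refine QuotientGroup.eq.mpr ?_
            change s (ψ ((a⁻¹ * b : L) : Γ) x) = s x
            rw [Subgroup.coe_mul, Subgroup.coe_inv, hmul, ← hsg (a : Γ)⁻¹ (ψ (b : Γ) x), ← h1, hsg, ← hmul,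
              inv_mul_cancel, map_one]
            rfl
      · rintro ⟨μ, hμ⟩
        obtain ⟨l, hl, e⟩ := (hO μ).mp hμ
        exact ⟨((⟨l, hl⟩ : L) : L ⧸ St), Subtype.ext e⟩
    have h1 : St.index = O.card := by
      have h2 : Nat.card (L ⧸ St) = Nat.card O := Nat.card_eq_of_bijective F hF
      rw [Nat.card_eq_fintype_card (α := O), Fintype.card_coe] at h2
      exact h2
    have h2 : T.subgroupOf L ≤ St := by
      intro l hl
      exact hxT _ (mem_subgroupOf.mp hl)
    have h3 : St.index ∣ T.relIndex L := index_dvd_of_le h2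
    rw [relIndex_eq_index hLT, h1] at h3
    exact fun h4 => hT (h4.trans h3)
  have hperm : ∀ g : Γ, ∑ μ ∈ O, s (ψ g μ) = ∑ μ ∈ O, μ := by
    intro g
    refine Finset.sum_nbij (fun μ => s (ψ g μ)) (fun μ hμ => hact g μ hμ) ?_ ?_ fun μ _ => rfl
    · intro a ha b hb hab
      have hab' : s (ψ g a) = s (ψ g b) := hab
      rw [← hinvO g a ha, ← hinvO g b hb, hab']
    · intro μ hμ
      exact ⟨s (ψ g⁻¹ μ), hact g⁻¹ μ hμ, hinvO' g μ hμ⟩
  refine ⟨∑ μ ∈ O, μ, ?_, ?_, ?_, ?_⟩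
  · intro g
    have h1 : s (ψ g (∑ μ ∈ O, μ)) = ∑ μ ∈ O, μ := by
      rw [map_sum, map_sum]; exact hperm g
    rw [hs] at h1
    rcases z2 (π (ψ g (∑ μ ∈ O, μ))) with h2 | h2
    · left; rw [h2, zero_smul, add_zero] at h1; exact h1
    · right
      rw [h2, one_smul] at h1
      rw [← h1, add_assoc, addself, add_zero]
      congr 1
  · intro U hyU hU
    have h1 : x + ∑ μ ∈ O, μ = ∑ μ ∈ O, (x + μ) := by
      rw [Finset.sum_add_distrib, Finset.sum_const, nsmul_odd hcard]
    rw [h1]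
    refine U.sum_mem fun μ hμ => ?_
    obtain ⟨l, hl, rfl⟩ := (hO μ).mp hμ
    rw [hs, ← add_assoc, add_comm x]
    exact U.add_mem (hU l hl) (U.smul_mem _ hyU)
  · intro κ hκ
    have h1 : ∀ μ ∈ O, ψ κ μ + μ = ψ κ x + x := by
      intro μ hμ
      obtain ⟨l, hl, rfl⟩ := (hO μ).mp hμ
      have h2 := hκ l hl
      rw [map_add] at h2
      rw [hs, map_add, map_smul, hy]
      have e1 : ψ κ (ψ l x) = ψ l x + x + ψ κ x := by
        rw [← h2, add_assoc, addself, add_zero]
      rw [e1]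
      have e2 := addself (ψ l x)
      have e3 := addself (π (ψ l x) • y)
      calc ψ l x + x + ψ κ x + π (ψ l x) • y + (ψ l x + π (ψ l x) • y)
          = (ψ l x + ψ l x) + (π (ψ l x) • y + π (ψ l x) • y) + (ψ κ x + x) := by abel
        _ = ψ κ x + x := by rw [e2, e3, add_zero, zero_add]
    have h3 : ψ κ (∑ μ ∈ O, μ) + ∑ μ ∈ O, μ = ψ κ x + x := by
      rw [map_sum, ← Finset.sum_add_distrib, Finset.sum_congr rfl h1, Finset.sum_const, nsmul_odd hcard]
    have h4 : ψ κ (∑ μ ∈ O, μ) = ψ κ x + x + ∑ μ ∈ O, μ := by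
      rw [← h3, add_assoc, addself, add_zero]
    rw [map_add, h4]
    calc ψ κ x + (ψ κ x + x + ∑ μ ∈ O, μ) = (ψ κ x + ψ κ x) + (x + ∑ μ ∈ O, μ) := by abel
      _ = _ := by rw [addself, zero_add]
  · intro f hf hff hX
    have hψ : ∀ w, ψ f (ψ f w) = w := by
      intro w
      rw [← hmul, hff, map_one]; rfl
    have h1 : ∀ μ ∈ O, π (ψ f (s (ψ f μ))) = π (ψ f μ) := by
      intro μ hμ
      rw [hs, map_add, map_smul, hy, hψ, map_add, map_smul, hπ, hπO μ hμ, smul_eq_mul, mul_one, zero_add]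
    have h2 : ∑ μ ∈ O, π (ψ f μ) = 0 := by
      refine Finset.sum_involution (fun μ _ => s (ψ f μ)) ?_ ?_ (fun μ hμ => hact f μ hμ) ?_
      · intro μ hμ
        rw [h1 μ hμ]
        exact FOne.Tvw.z2add _
      · intro μ hμ hne hfix
        apply hne
        refine (z2 _).resolve_right fun h3 => ?_
        obtain ⟨l, hl, rfl⟩ := (hO μ).mp hμ
        rw [hs (ψ f _), h3, one_smul] at hfix
        -- `ψ f μ = μ + y`
        have h4 : ψ f (s (ψ l x)) = s (ψ l x) + y := by
          conv_rhs => rw [← hfix]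
          rw [add_assoc, addself, add_zero]
        rw [hs, map_add, map_smul, hy] at h4
        apply hX l hl
        have h5 : ψ f (ψ l x) + π (ψ l x) • y = (ψ l x + y) + π (ψ l x) • y := by
          rw [h4]; abel
        exact add_right_cancel h5
      · intro μ hμ
        show s (ψ f (s (ψ f μ))) = μ
        rw [hsg, hψ]
        exact hs0 (hπO μ hμ)
    have h3 : ψ f (∑ μ ∈ O, μ) = ∑ μ ∈ O, (s (ψ f μ) + π (ψ f μ) • y) := by
      rw [map_sum]
      refine Finset.sum_congr rfl fun μ _ => ?_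
      rw [hs, add_assoc, addself, add_zero]
    rw [h3, Finset.sum_add_distrib, hperm f, ← Finset.sum_smul, h2, zero_smul, add_zero]

end Cfsg.Agent.Omega.NO3S.FarQ.AB

end

section


/-!
# THEOREM AB (helper937, bb OMEGA #20929), part (7)

A transvection `g` of `W / y` whose centre has swapped lifts, `w` a vector whose orbit generates `W` modulo `y`:
`g` swaps the lifts of an element of the orbit of `w`.

* `swaps` : `Base H y`, `g ∈ H`, `IsTv H y g`, `w` not killed by all functionals of the block: some `h ∈ H` with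
  `g (h w) = h w + y`;
* `not_nsw` : (7), for a generating orbit;
* `ax_bot` : `Sw`, `Ax`, `PTv` and (NSW) give `A = 1`.
-/

set_option autoImplicit false
set_option linter.unusedSectionVars false

namespace Cfsg.Agent.Omega.NO3S.FarQ.AB

open Subgroup Cfsg
open Cfsg.Agent.Omega.FOne.Tvw
open Cfsg.Agent.Omega.FOne.NOv (Sw Ax PTv)

section

variable {W : Type*} [AddCommGroup W] [Module (ZMod 2) W] [Finite W] {H : Subgroup (W ≃ₗ[ZMod 2] W)} {y : W}

/-- the elements of the frame are transitive on the nonzero coordinates -/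
theorem exists_cd {Θ : Set W} (h : FOne.Tvw.Hyp H y Θ) {t1 t2 t3 : W} {p1 p2 p3 : W →ₗ[ZMod 2] ZMod 2}
    (F : Fr H y Θ t1 t2 t3 p1 p2 p3) {w : W} (hw : Fr.cd p1 p2 p3 w ≠ 0) {c : T3} (hc : c ≠ 0) :
    ∃ k ∈ H, Fr.cd p1 p2 p3 (k w) = c := by
  by_cases e : Fr.cd p1 p2 p3 w = c
  · exact ⟨1, H.one_mem, e⟩
  have hu : Fr.cd p1 p2 p3 w + c ≠ 0 := fun h0 => e (t3add _ _ h0)
  have hne : Fr.cd p1 p2 p3 w + c ≠ Fr.cd p1 p2 p3 w := fun h0 => hc (by simpa using h0)
  obtain ⟨κ, k1, k2⟩ := dec4 _ _ hu hw hne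
  obtain ⟨d, k, hk, hkw⟩ := F.st h hu k1
  refine ⟨k, hk, ?_⟩
  rw [hkw w, Fr.cd_add, Fr.cd_add, Fr.cd_smul, Fr.cd_smul, F.cd_y h, smul_zero, add_zero, pv_apply,
    show dot κ (p1 w, p2 w, p3 w) = 1 from k2, one_smul,
    show Fr.cd p1 p2 p3 (tv t1 t2 t3 (Fr.cd p1 p2 p3 w + c)) = _ from F.coord _, ← add_assoc, t3self, zero_add]

/-- **(7)**, one vector -/
theorem swaps (b : Base H y) {g : W ≃ₗ[ZMod 2] W} (hg : g ∈ H) {θ : W} {f d : W →ₗ[ZMod 2] ZMod 2}
    (θ0 : θ ≠ 0) (θy : θ ≠ y) (hf : f ≠ 0) (e : ∀ w, g w = w + f w • θ + d w • y) (hs : ∃ h ∈ H, h θ = θ + y)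
    {w0 : W} (gen : ∀ U : Submodule (ZMod 2) W, y ∈ U → (∀ h ∈ H, h w0 ∈ U) → U = ⊤) :
    ∃ h ∈ H, g (h w0) = h w0 + y := by
  have h := b.hyp θ0 θy hs
  obtain ⟨t2, t3, p1, p2, p3, F⟩ := h.exists_fr (θ := θ) ⟨1, H.one_mem, rfl⟩ ⟨g, hg, e⟩ hf
  have hΘ : θ ∈ {ρ | ∃ h ∈ H, h θ = ρ} := ⟨1, H.one_mem, rfl⟩
  have cθ : Fr.cd p1 p2 p3 θ ≠ 0 := by
    intro h0
    have h1 : p1 θ = 0 := congrArg Prod.fst h0
    rw [F.a11] at h1
    exact one_ne_zero h1
  obtain ⟨k, rfl, hk⟩ := F.eq_pv h hΘ cθ ⟨g, hg, e⟩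
  have k0 : k ≠ 0 := by
    rintro rfl
    exact hf (pv_zero p1 p2 p3)
  obtain ⟨k', rfl, k'0, k'k, -⟩ := F.d_eq h hΘ cθ k0 ⟨g, hg, e⟩
  obtain ⟨c, c1, c2⟩ := dec9 k k' ⟨k0, k'0, k'k.symm⟩ 0 1
  have c0 : c ≠ 0 := by
    rintro rfl
    rw [dot_zero] at c2
    exact zero_ne_one c2
  -- a conjugate of `w0` with nonzero coordinates
  obtain ⟨h1, hh1, hw1⟩ : ∃ h1 ∈ H, Fr.cd p1 p2 p3 (h1 w0) ≠ 0 := by
    by_contra hcon
    push Not at hcon
    let U : Submodule (ZMod 2) W :=
      { carrier := {w | Fr.cd p1 p2 p3 w = 0}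
        zero_mem' := by
          have := Fr.cd_smul (p1 := p1) (p2 := p2) (p3 := p3) 0 θ
          rw [zero_smul, zero_smul] at this
          exact this
        add_mem' := fun {a c} ha hc => by
          change Fr.cd p1 p2 p3 (a + c) = 0
          rw [Fr.cd_add, show Fr.cd p1 p2 p3 a = 0 from ha, show Fr.cd p1 p2 p3 c = 0 from hc, add_zero]
        smul_mem' := fun c w hw => by
          change Fr.cd p1 p2 p3 (c • w) = 0
          rw [Fr.cd_smul, show Fr.cd p1 p2 p3 w = 0 from hw, smul_zero] }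
    have hU : U = ⊤ := gen U (F.cd_y h) fun g hg => hcon g hg
    have : θ ∈ U := by rw [hU]; exact Submodule.mem_top
    exact cθ this
  obtain ⟨h2, hh2, hw2⟩ := exists_cd h F hw1 c0
  refine ⟨h2 * h1, H.mul_mem hh2 hh1, ?_⟩
  rw [LinearEquiv.mul_apply, e, pv_apply, pv_apply,
    show (p1 (h2 (h1 w0)), p2 (h2 (h1 w0)), p3 (h2 (h1 w0))) = c from hw2, c1, c2, zero_smul, one_smul, add_zero]

/-- **(7)** -/
theorem not_nsw (b : Base H y) {g : W ≃ₗ[ZMod 2] W} (hg : g ∈ H) (ht : IsTv H y g) {w0 : W}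
    (gen : ∀ U : Submodule (ZMod 2) W, y ∈ U → (∀ h ∈ H, h w0 ∈ U) → U = ⊤)
    (nsw : ∀ h ∈ H, g (h w0) ≠ h w0 + y) : False := by
  obtain ⟨θ, f, d, θ0, θy, hf, e, hs⟩ := ht
  obtain ⟨h, hh, hw⟩ := swaps b hg θ0 θy hf e hs gen
  exact nsw h hh hw

end

universe u

/-- **(6) (d) + (7)** : `Sw`, `Ax`, `PTv` and (NSW) give `A = 1` -/
theorem ax_bot (hP : PTv.{u}) {W : Type u} [AddCommGroup W] [Module (ZMod 2) W] [Finite W]
    {H : Subgroup (W ≃ₗ[ZMod 2] W)} {y : W} {T N A : Subgroup (W ≃ₗ[ZMod 2] W)} {L : Submodule (ZMod 2) W}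
    (S : Sw H y T N L) (X : Ax y N A)
    (nsw : ∀ a ∈ A, ∀ h ∈ H, ∀ v ∈ L, v ≠ 0 → v ≠ y → a (h v) ≠ h v + y) : A = ⊥ := by
  by_contra hne
  obtain ⟨g, hgA, hgt⟩ := hP W H y T N A L S X hne
  -- a generator of `L` modulo `y`
  obtain ⟨l, hl, hlL⟩ : ∃ l ∈ L, (l ≠ 0 ∧ l ≠ y) ∧ ∀ v ∈ L, v = 0 ∨ v = y ∨ v = l ∨ v = l + y := by
    obtain ⟨l, hl, l0, ly⟩ : ∃ l ∈ L, l ≠ 0 ∧ l ≠ y := by
      by_contra hcon
      push Not at hcon
      classical
      have h1 : (L : Set W) ⊆ (({0, y} : Finset W) : Set W) := by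
        intro v hv
        by_cases h0 : v = 0
        · simp [h0]
        · simp [hcon v hv h0]
      have h2 := Set.ncard_le_ncard h1 (Finset.finite_toSet _)
      rw [Set.ncard_coe_finset] at h2
      have h3 : (L : Set W).ncard = 4 := S.card
      have h4 := Finset.card_le_two (a := (0 : W)) (b := y)
      omega
    refine ⟨l, hl, ⟨l0, ly⟩, fun v hv => ?_⟩
    classical
    have h1 : (({0, y, l, l + y} : Finset W) : Set W) ⊆ (L : Set W) := by
      intro x hx
      simp only [Finset.coe_insert, Finset.coe_singleton, Set.mem_insert_iff, Set.mem_singleton_iff] at hx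
      rcases hx with rfl | rfl | rfl | rfl
      · exact L.zero_mem
      · exact S.yL
      · exact hl
      · exact L.add_mem hl S.yL
    have hc : ({0, y, l, l + y} : Finset W).card = 4 := by
      have n1 : (0 : W) ∉ ({y, l, l + y} : Finset W) := by
        simp only [Finset.mem_insert, Finset.mem_singleton]
        rintro (h | h | h)
        · exact S.base.y0 h.symm
        · exact l0 h.symm
        · exact ly (eq_of_add_eq_zero' h.symm)
      have n2 : y ∉ ({l, l + y} : Finset W) := by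
        simp only [Finset.mem_insert, Finset.mem_singleton]
        rintro (h | h)
        · exact ly h.symm
        · exact l0 (by simpa using h.symm)
      have n3 : l ∉ ({l + y} : Finset W) := by
        simp only [Finset.mem_singleton]
        intro h
        exact S.base.y0 (by simpa using h.symm)
      rw [Finset.card_insert_of_notMem n1, Finset.card_insert_of_notMem n2, Finset.card_insert_of_notMem n3,
        Finset.card_singleton]
    have h3 : (L : Set W).ncard = 4 := S.card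
    have h2 := Set.eq_of_subset_of_ncard_le h1 (by rw [Set.ncard_coe_finset, hc, h3]) (Set.toFinite _)
    have h4 : v ∈ (({0, y, l, l + y} : Finset W) : Set W) := by rw [h2]; exact hv
    simpa using h4
  refine not_nsw S.base (S.NH (X.AN hgA)) hgt (w0 := l) (fun U hy hU => S.gen U fun h hh v hv => ?_)
    fun h hh => nsw g hgA h hh l hl hlL.1.1 hlL.1.2
  rcases hlL.2 v hv with rfl | rfl | rfl | rfl
  · rw [map_zero]; exact U.zero_mem
  · rw [S.base.fix h hh]; exact hy
  · exact hU h hh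
  · rw [map_add, S.base.fix h hh]; exact U.add_mem (hU h hh) hy

end Cfsg.Agent.Omega.NO3S.FarQ.AB

end

end
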